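import Groth.Agent.InvTheory.Shear
import Mathlib.RingTheory.Flat.FaithfullyFlat.Basic
import Mathlib.RingTheory.Ideal.GoingDown
import Mathlib.RingTheory.Ideal.GoingUp
import Mathlib.RingTheory.Ideal.KrullsHeightTheorem
import Mathlib.RingTheory.TensorProduct.Free
import Mathlib.RingTheory.QuasiFinite.Basic
import Mathlib.RingTheory.Adjoin.Tower
import Mathlib.RingTheory.OrzechProperty
import Mathlib.LinearAlgebra.Charpoly.ToMatrix
import Mathlib.RingTheory.Norm.Defs

/-!
Quotients by finite group schemes: the characteristic polynomial of multiplication by the coaction has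
invariant coefficients, so the ring is integral over the invariants; going down and equality of
heights.
-/

open TensorProduct Polynomial

universe u v w

namespace Groth.InvTheory

section BaseChange

variable {k : Type u} [CommRing k] {H : Type v} [CommRing H] [Algebra k H] [Module.Free k H] [Module.Finite k H]

open scoped Classical in
/-- The matrix of multiplication by an element of `R ⊗ H`. -/
noncomputable def mulMatrix (R : Type w) [CommRing R] [Algebra k R] :
    R ⊗[k] H →ₐ[R] Matrix (Module.Free.ChooseBasisIndex k H) (Module.Free.ChooseBasisIndex k H) R :=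
  Algebra.leftMulMatrix (Algebra.TensorProduct.basis R (Module.Free.chooseBasis k H))

open scoped Classical in
lemma mulMatrix_map {R R' : Type w} [CommRing R] [Algebra k R] [CommRing R'] [Algebra k R']
    (f : R →ₐ[k] R') (z : R ⊗[k] H) :
    mulMatrix R' (Algebra.TensorProduct.map f (AlgHom.id k H) z) = (mulMatrix R z).map f := by
  ext i j
  simp only [mulMatrix, Matrix.map_apply, Algebra.leftMulMatrix_eq_repr_mul, Algebra.TensorProduct.basis_apply]
  rw [show ((1 : R') ⊗ₜ[k] Module.Free.chooseBasis k H j) =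
    Algebra.TensorProduct.map f (AlgHom.id k H) ((1 : R) ⊗ₜ Module.Free.chooseBasis k H j) by simp, ← map_mul]
  induction z * ((1 : R) ⊗ₜ[k] Module.Free.chooseBasis k H j) using TensorProduct.induction_on with
  | zero => simp
  | tmul a b => simp [Algebra.TensorProduct.basis_repr_tmul]
  | add x y hx hy => simp [map_add, hx, hy]

end BaseChange

set_option linter.unusedSectionVars false

variable {k : Type u} [Field k] {H : Type v} [CommRing H] [HopfAlgebra k H] [Module.Finite k H]
  {R : Type v} [CommRing R] [Algebra k R] [HopfRep.Comod k H R]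
  (hmul : ∀ x y : R, HopfRep.Comod.coact (k := k) (A := H) (x * y) =
        HopfRep.Comod.coact (k := k) (A := H) x * HopfRep.Comod.coact (k := k) (A := H) y)
  (hone : HopfRep.Comod.coact (k := k) (A := H) (1 : R) = 1)

open scoped Classical in
/-- The characteristic polynomial of the action on an element. -/
noncomputable def actCharpoly (x : R) : R[X] :=
  (mulMatrix R (coactHom k H R hmul hone x)).charpoly

lemma actCharpoly_monic (x : R) : (actCharpoly hmul hone x).Monic := Matrix.charpoly_monic _

lemma coeff_actCharpoly_fixed (x : R) (n : ℕ) :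
    HopfRep.Comod.coact (k := k) (A := H) ((actCharpoly hmul hone x).coeff n) =
      (actCharpoly hmul hone x).coeff n ⊗ₜ[k] (1 : H) := by
  classical
  let c := coactHom k H R hmul hone
  let g : R →ₐ[k] R ⊗[k] H := Algebra.TensorProduct.includeLeft
  suffices e : (actCharpoly hmul hone x).map c.toRingHom = (actCharpoly hmul hone x).map g.toRingHom by
    have := congrArg (fun P ↦ P.coeff n) e
    simp only [Polynomial.coeff_map] at this
    exact this
  simp only [actCharpoly, ← Matrix.charpoly_map]
  change ((mulMatrix R (c x)).map c).charpoly = ((mulMatrix R (c x)).map g).charpoly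
  rw [← mulMatrix_map, ← mulMatrix_map]
  -- the automorphism `a ⊗ b ↦ (a ⊗ 1) Δ(b)` over the first factor
  let ι : H ⊗[k] H →ₐ[k] (R ⊗[k] H) ⊗[k] H :=
    Algebra.TensorProduct.map Algebra.TensorProduct.includeRight (AlgHom.id k H)
  let Θ : (R ⊗[k] H) ⊗[k] H →ₐ[R ⊗[k] H] (R ⊗[k] H) ⊗[k] H :=
    Algebra.TensorProduct.lift (Algebra.ofId _ _) (ι.comp (Bialgebra.comulAlgHom k H)) fun _ _ ↦ .all ..
  have hΘ : ∀ v : R ⊗[k] H, Θ (Algebra.TensorProduct.map g (AlgHom.id k H) v) =
      (TensorProduct.assoc k R H H).symm ((CoalgebraStruct.comul (R := k) (A := H)).lTensor R v) := by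
    intro v
    induction v using TensorProduct.induction_on with
    | zero => simp
    | add a b ha hb => simp only [map_add, ha, hb]
    | tmul a b =>
      simp only [Θ, ι, g, Algebra.TensorProduct.map_tmul, Algebra.TensorProduct.includeLeft_apply, AlgHom.coe_id, id_eq,
        Algebra.TensorProduct.lift_tmul, Algebra.ofId_apply, AlgHom.comp_apply, Bialgebra.comulAlgHom_apply,
        LinearMap.lTensor_tmul]
      induction CoalgebraStruct.comul (R := k) b using TensorProduct.induction_on with
      | zero => simp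
      | add p q hp hq => simp only [map_add, mul_add, TensorProduct.tmul_add, hp, hq]
      | tmul p q => simp [Algebra.TensorProduct.algebraMap_apply, Algebra.TensorProduct.tmul_mul_tmul]
  have hc : Algebra.TensorProduct.map c (AlgHom.id k H) (c x) =
      Θ (Algebra.TensorProduct.map g (AlgHom.id k H) (c x)) := by
    rw [hΘ, LinearEquiv.eq_symm_apply]
    have e := LinearMap.congr_fun (HopfRep.Comod.coassoc (k := k) (A := H) (V := R)) x
    simp only [LinearMap.comp_apply, LinearEquiv.coe_coe] at e
    refine Eq.trans ?_ e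
    congr 1
  have hsurj : Function.Surjective Θ := by
    intro v
    induction v using TensorProduct.induction_on with
    | zero => exact ⟨0, map_zero _⟩
    | add a b ha hb =>
      obtain ⟨a', rfl⟩ := ha
      obtain ⟨b', rfl⟩ := hb
      exact ⟨a' + b', map_add _ _ _⟩
    | tmul r b =>
      -- `1 ⊗ b = Σ (S b₁) Δ(b₂)`
      let Φ : H ⊗[k] H →ₗ[k] (R ⊗[k] H) ⊗[k] H :=
        (Algebra.TensorProduct.map (Algebra.TensorProduct.includeRight.comp (HopfAlgebra.antipodeAlgHom k H))
          (AlgHom.id k H) : H ⊗[k] H →ₐ[k] (R ⊗[k] H) ⊗[k] H).toLinearMap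
      refine ⟨(r ⊗ₜ[k] (1 : H)) * Φ (CoalgebraStruct.comul (R := k) b), ?_⟩
      rw [map_mul, show Θ (r ⊗ₜ[k] (1 : H)) = r ⊗ₜ 1 by simp [Θ, Algebra.TensorProduct.algebraMap_apply]]
      have key : ∀ w : H ⊗[k] H, Θ (Φ w) =
          ι ((LinearMap.mul' k H ∘ₗ (HopfAlgebraStruct.antipode k).rTensor H).rTensor H
            ((TensorProduct.assoc k H H H).symm ((CoalgebraStruct.comul (R := k) (A := H)).lTensor H w))) := by
        intro w
        induction w using TensorProduct.induction_on with
        | zero => simp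
        | add a b ha hb => simp only [map_add, ha, hb]
        | tmul a b =>
          simp only [Φ, Θ, ι, AlgHom.toLinearMap_apply, Algebra.TensorProduct.map_tmul, AlgHom.comp_apply,
            Algebra.TensorProduct.includeRight_apply, HopfAlgebra.antipodeAlgHom_apply, AlgHom.coe_id, id_eq,
            Algebra.TensorProduct.lift_tmul, Algebra.ofId_apply, Bialgebra.comulAlgHom_apply, LinearMap.lTensor_tmul]
          induction CoalgebraStruct.comul (R := k) b using TensorProduct.induction_on with
          | zero => simp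
          | add p q hp hq => simp only [map_add, mul_add, TensorProduct.tmul_add, hp, hq]
          | tmul p q => simp [Algebra.TensorProduct.algebraMap_apply, Algebra.TensorProduct.tmul_mul_tmul]
      rw [key, Coalgebra.coassoc_symm_apply, ← LinearMap.rTensor_comp_apply, LinearMap.comp_assoc,
        HopfAlgebra.mul_antipode_rTensor_comul, LinearMap.rTensor_comp_apply, Coalgebra.rTensor_counit_comul]
      simp [ι, Algebra.TensorProduct.tmul_mul_tmul, ← Algebra.TensorProduct.one_def]
  have hinj := OrzechProperty.injective_of_surjective_endomorphism Θ.toLinearMap hsurj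
  let Θe : (R ⊗[k] H) ⊗[k] H ≃ₐ[R ⊗[k] H] (R ⊗[k] H) ⊗[k] H := AlgEquiv.ofBijective Θ ⟨hinj, hsurj⟩
  have hcp : ∀ z, (mulMatrix (R ⊗[k] H) z).charpoly =
      (Algebra.lmul (R ⊗[k] H) ((R ⊗[k] H) ⊗[k] H) z).charpoly := fun z ↦
    LinearMap.charpoly_toMatrix _ _
  rw [hc, hcp, hcp, show Algebra.lmul (R ⊗[k] H) ((R ⊗[k] H) ⊗[k] H)
      (Θ (Algebra.TensorProduct.map g (AlgHom.id k H) (c x))) =
      Θe.toLinearEquiv.conj (Algebra.lmul (R ⊗[k] H) ((R ⊗[k] H) ⊗[k] H)
        (Algebra.TensorProduct.map g (AlgHom.id k H) (c x))) from LinearMap.ext fun v ↦ ?_]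
  · exact LinearEquiv.charpoly_conj _ _
  · change Θe _ * v = Θe (_ * Θe.symm v)
    rw [map_mul, AlgEquiv.apply_symm_apply]

/-- `ε : R ⊗ H → R`. -/
noncomputable def counitHom : R ⊗[k] H →ₐ[R] R :=
  Algebra.TensorProduct.lift (AlgHom.id R R) ((Algebra.ofId k R).comp (Bialgebra.counitAlgHom k H)) fun _ _ ↦ .all ..

lemma counitHom_coact (x : R) : counitHom (coactHom k H R hmul hone x) = x := by
  have e := LinearMap.congr_fun (HopfRep.Comod.counit_comp (k := k) (A := H) (V := R)) x
  have h : ∀ v : R ⊗[k] H, counitHom v =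
      TensorProduct.rid k R ((CoalgebraStruct.counit (R := k) (A := H)).lTensor R v) := by
    intro v
    induction v using TensorProduct.induction_on with
    | zero => simp
    | add a b ha hb => simp only [map_add, ha, hb]
    | tmul a b => simp [counitHom, Algebra.smul_def, mul_comm]
  rw [h]
  change TensorProduct.rid k R ((CoalgebraStruct.counit.lTensor R ∘ₗ HopfRep.Comod.coact) x) = x
  rw [e]
  simp

lemma eval_actCharpoly (x : R) : (actCharpoly hmul hone x).eval x = 0 := by
  classical
  have h : aeval (coactHom k H R hmul hone x) (actCharpoly hmul hone x) = 0 := by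
    refine Algebra.leftMulMatrix_injective (Algebra.TensorProduct.basis R (Module.Free.chooseBasis k H)) ?_
    rw [← aeval_algHom_apply, map_zero]
    exact Matrix.aeval_self_charpoly _
  have := congrArg (counitHom (k := k) (H := H) (R := R)) h
  rwa [← aeval_algHom_apply, counitHom_coact, map_zero, coe_aeval_eq_eval] at this

variable {A : Subalgebra k R}
  (hA : ∀ a : R, a ∈ A ↔ HopfRep.Comod.coact (k := k) (A := H) a = a ⊗ₜ[k] (1 : H))

include hA in
lemma actCharpoly_lifts (x : R) : actCharpoly hmul hone x ∈ lifts (algebraMap A R) :=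
  (lifts_iff_coeff_lifts _).mpr fun n ↦ ⟨⟨_, (hA _).mpr (coeff_actCharpoly_fixed hmul hone x n)⟩, rfl⟩

include hmul hone hA in
theorem isIntegral_invariants : Algebra.IsIntegral A R := ⟨fun x ↦ by
  obtain ⟨P, hP, -, hPm⟩ := lifts_and_natDegree_eq_and_monic (actCharpoly_lifts hmul hone hA x)
    (actCharpoly_monic hmul hone x)
  exact ⟨P, hPm, by rw [← eval_map, hP, eval_actCharpoly]⟩⟩

include hmul hone hA in
theorem finite_invariants [Algebra.FiniteType k R] : Module.Finite A R := by
  have := isIntegral_invariants hmul hone hA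
  have : Algebra.FiniteType A R := Algebra.FiniteType.of_restrictScalars_finiteType k A R
  exact Algebra.finite_iff_isIntegral_and_finiteType.mpr ⟨inferInstance, inferInstance⟩

include hmul hone hA in
theorem finiteType_invariants [Algebra.FiniteType k R] : Algebra.FiniteType k A := by
  have := finite_invariants hmul hone hA
  exact ⟨fg_of_fg_of_fg k A R Algebra.FiniteType.out Module.Finite.fg_top Subtype.coe_injective⟩

include hA in
lemma comap_coact_under (Q : Ideal (R ⊗[k] H)) :
    (Q.comap (coactHom k H R hmul hone).toRingHom).comap (algebraMap A R) =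
      (Q.comap (algebraMap R (R ⊗[k] H))).comap (algebraMap A R) := by
  ext a
  simp only [Ideal.mem_comap]
  exact Iff.of_eq (congrArg (· ∈ Q) ((hA a).mp a.2))

include hA in
/-- Primes over the same prime of the invariants are translates of each other. -/
theorem exists_comap_coact_eq (q₁ q₂ : Ideal R) [q₁.IsPrime] [q₂.IsPrime]
    (h : q₁.comap (algebraMap A R) = q₂.comap (algebraMap A R)) :
    ∃ Q : Ideal (R ⊗[k] H), Q.IsPrime ∧ Q.comap (algebraMap R (R ⊗[k] H)) = q₂ ∧
      Q.comap (coactHom k H R hmul hone).toRingHom = q₁ := by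
  classical
  have := isIntegral_invariants hmul hone hA
  have hfin : (q₂.primesOver (R ⊗[k] H)).Finite := Algebra.QuasiFinite.finite_primesOver q₂
  have hex : ∀ x ∈ q₁, ∃ Q ∈ q₂.primesOver (R ⊗[k] H), coactHom k H R hmul hone x ∈ Q := by
    intro x hx
    set y := coactHom k H R hmul hone x
    set P := actCharpoly hmul hone x
    have hP0 : P.coeff 0 ∈ q₂ := by
      have h1 : P.coeff 0 ∈ q₁ := by
        have h2 : P.eval x = 0 := eval_actCharpoly hmul hone x
        have h3 : (P.map (Ideal.Quotient.mk q₁)).eval (Ideal.Quotient.mk q₁ x) = 0 := by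
          rw [eval_map, eval₂_at_apply, h2, map_zero]
        rw [Ideal.Quotient.eq_zero_iff_mem.mpr hx, ← coeff_zero_eq_eval_zero, coeff_map] at h3
        exact Ideal.Quotient.eq_zero_iff_mem.mp h3
      have hmem : (⟨_, (hA _).mpr (coeff_actCharpoly_fixed hmul hone x 0)⟩ : A) ∈ q₁.comap (algebraMap A R) := h1
      rw [h] at hmem
      exact hmem
    obtain ⟨Q, hQJ, hQ, hQc⟩ := Ideal.exists_ideal_over_prime_of_isIntegral q₂
      (Ideal.span {y} ⊔ q₂.map (algebraMap R (R ⊗[k] H))) (by
      intro s hs
      by_contra hsq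
      obtain ⟨a, ha, b, hb, hab⟩ := Submodule.mem_sup.mp (Ideal.mem_comap.mp hs)
      obtain ⟨c, rfl⟩ := Ideal.mem_span_singleton.mp ha
      let f : R →ₐ[k] R ⧸ q₂ := Ideal.Quotient.mkₐ k q₂
      let F := Algebra.TensorProduct.map f (AlgHom.id k H)
      have hbF : F b = 0 := by
        refine RingHom.mem_ker.mp (Ideal.map_le_iff_le_comap.mpr (fun z hz ↦ ?_) hb)
        change F (z ⊗ₜ[k] (1 : H)) = 0
        rw [Algebra.TensorProduct.map_tmul, show f z = 0 from Ideal.Quotient.eq_zero_iff_mem.mpr hz, zero_tmul]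
      have e := congrArg (fun v ↦ (mulMatrix (R ⧸ q₂) (F v)).det) hab
      simp only [map_add, hbF, add_zero, map_mul, Matrix.det_mul] at e
      have hdet : (mulMatrix (R ⧸ q₂) (F y)).det = 0 := by
        rw [mulMatrix_map, show ((mulMatrix R y).map f).det = f (mulMatrix R y).det from (RingHom.map_det f.toRingHom _).symm, Matrix.det_eq_sign_charpoly_coeff, map_mul]
        refine mul_eq_zero_of_right _ ?_
        exact Ideal.Quotient.eq_zero_iff_mem.mpr hP0
      rw [hdet, zero_mul] at e
      refine hsq (Ideal.Quotient.eq_zero_iff_mem.mp ?_)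
      have hs' : F (algebraMap R (R ⊗[k] H) s) = algebraMap (R ⧸ q₂) _ (f s) := by
        simp [F, Algebra.TensorProduct.algebraMap_apply]
      rw [hs', AlgHom.commutes, Matrix.algebraMap_eq_diagonal, Matrix.det_diagonal] at e
      simp only [Pi.algebraMap_apply, Algebra.algebraMap_self, RingHom.id_apply, Finset.prod_const] at e
      exact eq_zero_of_pow_eq_zero e.symm)
    exact ⟨Q, ⟨hQ, ⟨hQc.symm⟩⟩, hQJ (Submodule.mem_sup_left (Ideal.subset_span rfl))⟩
  obtain ⟨Q, hQ, hle⟩ : ∃ Q ∈ q₂.primesOver (R ⊗[k] H), q₁ ≤ Q.comap (coactHom k H R hmul hone).toRingHom := by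
    have hsub : (q₁ : Set R) ⊆ ⋃ Q ∈ (hfin.toFinset : Set (Ideal (R ⊗[k] H))),
        (Q.comap (coactHom k H R hmul hone).toRingHom : Set R) := fun x hx ↦ by
      obtain ⟨Q, hQ, hxQ⟩ := hex x hx
      exact Set.mem_biUnion (hfin.mem_toFinset.mpr hQ) hxQ
    obtain ⟨Q, hQ, hle⟩ := (Ideal.subset_union_prime ⊥ ⊥ fun Q hQ _ _ ↦ by
      have := (hfin.mem_toFinset.mp hQ).1
      exact Ideal.comap_isPrime _ _).mp hsub
    exact ⟨Q, hfin.mem_toFinset.mp hQ, hle⟩
  have := hQ.1
  refine ⟨Q, hQ.1, hQ.2.over.symm, le_antisymm ?_ hle⟩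
  by_contra hne
  obtain ⟨z, hz, hz'⟩ := SetLike.not_le_iff_exists.mp hne
  have hlt := Ideal.comap_lt_comap_of_integral_mem_sdiff (R := A) hle ⟨hz, hz'⟩ (Algebra.IsIntegral.isIntegral z)
  rw [comap_coact_under hmul hone hA, h, ← hQ.2.over.symm] at hlt
  exact lt_irrefl _ hlt

include hmul hone hA in
theorem hasGoingDown_invariants : Algebra.HasGoingDown A R := by
  have := isIntegral_invariants hmul hone hA
  refine ⟨fun {p} _ q _ hpq ↦ ?_⟩
  have hker : RingHom.ker (algebraMap A R) ≤ p := by
    rw [(RingHom.injective_iff_ker_eq_bot _).mp Subtype.coe_injective]; exact bot_le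
  obtain ⟨q₀, -, hq₀, hq₀p⟩ := Ideal.exists_ideal_over_prime_of_isIntegral p ⊥ hker
  obtain ⟨q', hle, hq', hq'c⟩ := Ideal.exists_ideal_over_prime_of_isIntegral (q.comap (algebraMap A R)) q₀
    (hq₀p.symm ▸ hpq.le)
  obtain ⟨Q, hQ, hQ2, hQ1⟩ := exists_comap_coact_eq hmul hone hA q q' hq'c.symm
  have : Q.LiesOver q' := ⟨hQ2.symm⟩
  obtain ⟨Q', hQ', hQ'p, hQ'o⟩ := Ideal.exists_ideal_le_liesOver_of_le (p := q₀) Q hle
  refine ⟨Q'.comap (coactHom k H R hmul hone).toRingHom, hQ1 ▸ Ideal.comap_mono hQ', Ideal.comap_isPrime _ _, ⟨?_⟩⟩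
  change p = (Q'.comap _).comap (algebraMap A R)
  rw [comap_coact_under hmul hone hA, show Q'.comap (algebraMap R (R ⊗[k] H)) = q₀ from hQ'o.over.symm, hq₀p]

include hmul hone hA in
theorem height_comap_invariants [Algebra.FiniteType k R] (q : Ideal R) [q.IsPrime] :
    (q.comap (algebraMap A R)).height = q.height := by
  have := isIntegral_invariants hmul hone hA
  have := hasGoingDown_invariants hmul hone hA
  have := finiteType_invariants hmul hone hA
  have : IsNoetherianRing A := Algebra.FiniteType.isNoetherianRing k A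
  have : IsNoetherianRing R := Algebra.FiniteType.isNoetherianRing k R
  have : q.LiesOver (q.comap (algebraMap A R)) := ⟨rfl⟩
  rw [Ideal.height_eq_height_add_of_liesOver_of_hasGoingDown (q.comap (algebraMap A R)) q]
  set I := (q.comap (algebraMap A R)).map (algebraMap A R)
  have hIq : I ≤ q := Ideal.map_comap_le
  have hp : (q.map (Ideal.Quotient.mk I)).IsPrime :=
    Ideal.map_isPrime_of_surjective Ideal.Quotient.mk_surjective (by rwa [Ideal.mk_ker])
  have hmin : q.map (Ideal.Quotient.mk I) ∈ minimalPrimes (R ⧸ I) := by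
    refine ⟨⟨hp, bot_le⟩, fun P hP hPq ↦ ?_⟩
    have hPc := hP.1.comap (Ideal.Quotient.mk I)
    have hle : P.comap (Ideal.Quotient.mk I) ≤ q := by
      refine (Ideal.comap_mono hPq).trans (le_of_eq ?_)
      rw [Ideal.comap_map_of_surjective _ Ideal.Quotient.mk_surjective, ← RingHom.ker_eq_comap_bot, Ideal.mk_ker,
        sup_eq_left.mpr hIq]
    refine Ideal.map_le_iff_le_comap.mpr ?_
    by_contra hne
    obtain ⟨z, hz, hz'⟩ := SetLike.not_le_iff_exists.mp hne
    have := hPc
    refine not_le_of_gt (Ideal.comap_lt_comap_of_integral_mem_sdiff (R := A) hle ⟨hz, hz'⟩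
      (Algebra.IsIntegral.isIntegral z)) fun a ha ↦ ?_
    rw [Ideal.mem_comap, Ideal.mem_comap, Ideal.Quotient.eq_zero_iff_mem.mpr (Ideal.mem_map_of_mem _ ha)]
    exact zero_mem _
  rw [Ideal.height_eq_zero_iff.mpr hmin, add_zero]

end Groth.InvTheory
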