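import Mathlib

/-!
# The Bezoutian of a zero-dimensional complete intersection

For `n` polynomials in `n` variables with finite-dimensional quotient, the Bezoutian gives a perfect pairing on
the quotient; for a linear group action of determinant one fixing the polynomials the pairing is invariant.
-/

set_option autoImplicit false

universe u v

open MvPolynomial TensorProduct

namespace Groth.InvTheory.Bezout

section Matrices

variable {R : Type u} [CommRing R] {n : ℕ} (Z : Fin n → R)

/-- The `Z j` behave like variables. -/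
def IsVarLike : Prop :=
  ∀ (s : Finset (Fin n)) (a : Fin n), a ∉ s → ∀ r : R, r * Z a ∈ Ideal.span (Z '' s) → r ∈ Ideal.span (Z '' s)

lemma syzygy_sum_mem (hZ : IsVarLike Z) (I : Ideal R) (M : Fin n → R) (hM : ∀ l k, Z l * M k - Z k * M l ∈ I)
    (s : Finset (Fin n)) : ∀ r : Fin n → R, ∑ j ∈ s, r j * Z j = 0 → ∑ j ∈ s, r j * M j ∈ I := by
  classical
  induction s using Finset.induction with
  | empty => intro r _; simp
  | insert a s ha ih =>
    intro r hr
    rw [Finset.sum_insert ha] at hr ⊢
    have hmem : r a * Z a ∈ Ideal.span (Z '' s) := by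
      rw [eq_neg_of_add_eq_zero_left hr]
      exact neg_mem (sum_mem fun j hj ↦ Ideal.mul_mem_left _ _ (Ideal.subset_span ⟨j, hj, rfl⟩))
    obtain ⟨l, hl, hle⟩ := (Finsupp.mem_span_image_iff_linearCombination R).mp (hZ s a ha _ hmem)
    have hle' : r a = ∑ j ∈ s, l j * Z j := by
      rw [← hle, Finsupp.linearCombination_apply, Finsupp.sum_of_support_subset l ((Finsupp.mem_supported R l).mp hl)]
      · simp only [smul_eq_mul]
      · simp
    have h2 := ih (fun j ↦ r j + l j * Z a) (by
      simp only [add_mul, Finset.sum_add_distrib]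
      rw [← hr, hle', Finset.sum_mul, add_comm]
      exact congrArg (· + _) (Finset.sum_congr rfl fun j _ ↦ by ring))
    have h3 : ∑ j ∈ s, l j * (Z j * M a - Z a * M j) ∈ I := sum_mem fun j _ ↦ I.mul_mem_left _ (hM j a)
    convert add_mem h2 h3 using 1
    rw [hle', Finset.sum_mul, ← Finset.sum_add_distrib, ← Finset.sum_add_distrib]
    exact Finset.sum_congr rfl fun j _ ↦ by ring

lemma det_mul_Z (C : Matrix (Fin n) (Fin n) R) (j : Fin n) :
    C.det * Z j = ∑ i, C.adjugate j i * C.mulVec Z i := by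
  have h := congrFun (congrArg (fun M : Matrix (Fin n) (Fin n) R ↦ M.mulVec Z) (Matrix.adjugate_mul C)) j
  simp only [← Matrix.mulVec_mulVec, Matrix.smul_mulVec, Matrix.one_mulVec, Pi.smul_apply, smul_eq_mul] at h
  rw [← h]
  rfl

lemma det_mul_Z_mem (C : Matrix (Fin n) (Fin n) R) (j : Fin n) :
    C.det * Z j ∈ Ideal.span (Set.range (C.mulVec Z)) := by
  rw [det_mul_Z]
  exact sum_mem fun i _ ↦ Ideal.mul_mem_left _ _ (Ideal.subset_span ⟨i, rfl⟩)

lemma det_updateRow_eq (C : Matrix (Fin n) (Fin n) R) (i : Fin n) (r : Fin n → R) :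
    (C.updateRow i r).det = ∑ k, r k * C.adjugate k i := by
  classical
  have h := congrFun (congrFun (Matrix.mul_adjugate (C.updateRow i r)) i) i
  simp only [Matrix.mul_apply, Matrix.updateRow_self, Matrix.smul_apply, Matrix.one_apply_eq, smul_eq_mul,
    mul_one] at h
  rw [← h]
  refine Finset.sum_congr rfl fun k _ ↦ ?_
  rw [Matrix.adjugate_apply, Matrix.adjugate_apply]
  congr 2
  exact funext fun a ↦ funext fun b ↦ by simp [Matrix.updateRow_apply]; split_ifs <;> rfl

lemma cofactor_cross_mem (C : Matrix (Fin n) (Fin n) R) (I : Ideal R) (i : Fin n)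
    (hI : ∀ i', i' ≠ i → C.mulVec Z i' ∈ I) (l k : Fin n) :
    Z l * C.adjugate k i - Z k * C.adjugate l i ∈ I := by
  classical
  let C' := C.updateRow i (Pi.single k 1)
  have hdet : C'.det = C.adjugate k i := (Matrix.adjugate_apply C k i).symm
  have hadj : C'.adjugate l i = C.adjugate l i := by
    rw [Matrix.adjugate_apply, Matrix.adjugate_apply]
    congr 1
    exact funext fun a ↦ funext fun b ↦ by simp [C', Matrix.updateRow_apply]; split_ifs <;> rfl
  have hi : C'.mulVec Z i = Z k := by
    simp [C', Matrix.mulVec, dotProduct, Pi.single_apply]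
  rw [← hdet, mul_comm (Z l), det_mul_Z, ← Finset.add_sum_erase _ _ (Finset.mem_univ i), hi, hadj, mul_comm (Z k),
    add_sub_cancel_left]
  refine sum_mem fun i' hi' ↦ Ideal.mul_mem_left _ _ ?_
  have hne := (Finset.mem_erase.mp hi').1
  convert hI i' hne using 1
  simp [C', Matrix.mulVec, dotProduct, Matrix.updateRow_apply, hne]

/-- Two matrices expressing the same vector in variable-like elements have congruent determinants. -/
lemma det_sub_mem (hZ : IsVarLike Z) (C C' : Matrix (Fin n) (Fin n) R) (h : C.mulVec Z = C'.mulVec Z) :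
    C.det - C'.det ∈ Ideal.span (Set.range (C.mulVec Z)) := by
  classical
  set I := Ideal.span (Set.range (C.mulVec Z))
  let Cs : Finset (Fin n) → Matrix (Fin n) (Fin n) R := fun s ↦ Matrix.of fun a ↦ if a ∈ s then C' a else C a
  have hCs : ∀ s a, (Cs s).mulVec Z a = C.mulVec Z a := fun s a ↦ by
    by_cases ha : a ∈ s
    · rw [h]; simp [Cs, Matrix.mulVec, ha]
    · simp [Cs, Matrix.mulVec, ha]
  suffices key : ∀ s, C.det - (Cs s).det ∈ I by
    have := key Finset.univ
    rwa [show Cs Finset.univ = C' from Matrix.ext fun a b ↦ by simp [Cs]] at this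
  intro s
  induction s using Finset.induction with
  | empty => rw [show Cs ∅ = C from Matrix.ext fun a b ↦ by simp [Cs], sub_self]; exact I.zero_mem
  | insert i s hi ih =>
    have h1 : Cs (insert i s) = (Cs s).updateRow i (C' i) := Matrix.ext fun a b ↦ by
      rcases eq_or_ne a i with rfl | hne <;> simp [Cs, Matrix.updateRow_apply, *]
    have h2 : Cs s = (Cs s).updateRow i (C i) := Matrix.ext fun a b ↦ by
      rcases eq_or_ne a i with rfl | hne <;> simp [Cs, Matrix.updateRow_apply, *]
    have hr : ∑ k ∈ Finset.univ, (C i k - C' i k) * Z k = 0 := by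
      simp only [sub_mul, Finset.sum_sub_distrib]
      exact sub_eq_zero.mpr (congrFun h i)
    have := syzygy_sum_mem Z hZ I (fun k ↦ (Cs s).adjugate k i)
      (fun l k ↦ cofactor_cross_mem Z (Cs s) I i
        (fun i' _ ↦ by rw [hCs]; exact Ideal.subset_span ⟨i', rfl⟩) l k) Finset.univ _ hr
    simp only [sub_mul, Finset.sum_sub_distrib, ← det_updateRow_eq, ← h2, ← h1] at this
    convert add_mem ih this using 1
    abel

end Matrices

lemma isVarLike_X (S : Type u) [CommRing S] (n : ℕ) : IsVarLike (X : Fin n → MvPolynomial (Fin n) S) := by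
  classical
  intro s a ha r hr
  rw [mem_ideal_span_X_image] at hr ⊢
  intro m hm
  have hm' : m + Finsupp.single a 1 ∈ (r * X a).support := by
    rw [mem_support_iff, coeff_mul_X]
    exact mem_support_iff.mp hm
  obtain ⟨i, hi, hne⟩ := hr _ hm'
  refine ⟨i, hi, ?_⟩
  have hia : i ≠ a := fun e ↦ ha (e ▸ hi)
  simpa [Finsupp.single_apply, hia.symm] using hne

/-- Over a field, the determinant of a presentation of a zero-dimensional system is not in its ideal. -/
lemma det_not_mem {K : Type u} [Field K] {n : ℕ} (C : Matrix (Fin n) (Fin n) (MvPolynomial (Fin n) K))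
    (hfin : Module.Finite K (MvPolynomial (Fin n) K ⧸ Ideal.span (Set.range (C.mulVec X)))) :
    C.det ∉ Ideal.span (Set.range (C.mulVec X)) := by
  classical
  intro hdet
  set I := Ideal.span (Set.range (C.mulVec (X : Fin n → MvPolynomial (Fin n) K)))
  have hp : ∀ i : Fin n, ∃ (N : ℕ) (u : Polynomial K), u.eval 0 ≠ 0 ∧
      Polynomial.aeval (X i) u * (X i) ^ (N + 1) ∈ I := by
    intro i
    obtain ⟨q, hq, hq0⟩ := IsIntegral.of_finite K (Ideal.Quotient.mk I (X i))
    obtain ⟨u, hu, hnd⟩ := q.exists_eq_pow_rootMultiplicity_mul_and_not_dvd hq.ne_zero 0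
    refine ⟨q.rootMultiplicity 0, u, fun h ↦ hnd (Polynomial.dvd_iff_isRoot.mpr h), ?_⟩
    rw [← Ideal.Quotient.eq_zero_iff_mem]
    have h1 : Polynomial.aeval (Ideal.Quotient.mk I (X i)) q = 0 := by rwa [Polynomial.aeval_def]
    rw [hu, map_mul, map_pow, map_sub, Polynomial.aeval_X, Polynomial.aeval_C, map_zero, sub_zero] at h1
    rw [← Ideal.Quotient.mkₐ_eq_mk K, map_mul, map_pow, ← Polynomial.aeval_algHom_apply, Ideal.Quotient.mkₐ_eq_mk,
      pow_succ, ← mul_assoc, mul_comm (Polynomial.aeval _ u), h1, zero_mul]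
  choose N u hu hmem using hp
  let s : MvPolynomial (Fin n) K := ∏ i, Polynomial.aeval (X i) (u i)
  have hw : ∀ i, s * X i ^ (N i + 1) ∈ I := fun i ↦ by
    simp only [s]
    rw [← Finset.prod_erase_mul _ _ (Finset.mem_univ i), mul_assoc]
    exact I.mul_mem_left _ (hmem i)
  choose B hB using fun i ↦ Ideal.mem_span_range_iff_exists_fun.mp (hw i)
  let B' : Matrix (Fin n) (Fin n) (MvPolynomial (Fin n) K) := Matrix.of B
  let D : Matrix (Fin n) (Fin n) (MvPolynomial (Fin n) K) := Matrix.diagonal fun i ↦ s * X i ^ N i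
  have hBv : B'.mulVec (C.mulVec X) = fun i ↦ s * X i ^ (N i + 1) := funext fun i ↦ hB i
  have hBC : (B' * C).mulVec X = D.mulVec X := by
    rw [← Matrix.mulVec_mulVec, hBv]
    funext i
    rw [Matrix.mulVec_diagonal, pow_succ, mul_assoc]
  have h1 := det_sub_mem X (isVarLike_X K n) (B' * C) D hBC
  rw [show (B' * C).mulVec X = B'.mulVec (C.mulVec X) from (Matrix.mulVec_mulVec ..).symm] at h1
  set w := B'.mulVec (C.mulVec X)
  have h2 : B'.det * C.det ∈ Ideal.span (Set.range w) := by
    obtain ⟨c, hc⟩ := Ideal.mem_span_range_iff_exists_fun.mp hdet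
    rw [← hc, Finset.mul_sum]
    refine sum_mem fun j _ ↦ ?_
    rw [mul_left_comm]
    exact Ideal.mul_mem_left _ _ (det_mul_Z_mem (C.mulVec X) B' j)
  rw [Matrix.det_mul] at h1
  have h3 : D.det ∈ Ideal.span (Set.range w) := by
    have := sub_mem h2 h1
    rwa [sub_sub_cancel] at this
  have hle : Ideal.span (Set.range w) ≤
      Ideal.span ((fun m ↦ monomial m (1 : K)) '' Set.range fun i ↦ Finsupp.single i (N i + 1)) := by
    rw [Ideal.span_le]
    rintro _ ⟨i, rfl⟩
    simp only [hBv, SetLike.mem_coe]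
    refine Ideal.mul_mem_left _ _ (Ideal.subset_span ⟨_, ⟨i, rfl⟩, ?_⟩)
    simp [X_pow_eq_monomial]
  have h4 := mem_ideal_span_monomial_image.mp (hle h3)
  have hcoeff : coeff (Finsupp.equivFunOnFinite.symm N) D.det = constantCoeff s ^ n := by
    have : D.det = s ^ n * monomial (Finsupp.equivFunOnFinite.symm N) 1 := by
      simp only [D, Matrix.det_diagonal, Finset.prod_mul_distrib, Finset.prod_const, Finset.card_univ, Fintype.card_fin]
      congr 1
      rw [monomial_eq, C_1, one_mul, Finsupp.prod_fintype _ _ fun i ↦ pow_zero _]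
      rfl
    rw [this, coeff_mul_monomial', if_pos le_rfl, tsub_self, mul_one, ← constantCoeff_eq, map_pow]
  have hs : constantCoeff s ≠ 0 := by
    simp only [s, map_prod]
    refine Finset.prod_ne_zero_iff.mpr fun i _ ↦ ?_
    have : constantCoeff (Polynomial.aeval (X i : MvPolynomial (Fin n) K) (u i)) = (u i).eval 0 := by
      rw [Polynomial.aeval_def, Polynomial.hom_eval₂, constantCoeff_X, MvPolynomial.algebraMap_eq,
        show constantCoeff.comp (MvPolynomial.C : K →+* MvPolynomial (Fin n) K) = RingHom.id K from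
          RingHom.ext fun c ↦ constantCoeff_C _ c, Polynomial.eval₂_id]
    rw [this]
    exact hu i
  obtain ⟨_, ⟨i, rfl⟩, hi⟩ := h4 (Finsupp.equivFunOnFinite.symm N) (mem_support_iff.mpr (hcoeff ▸ pow_ne_zero _ hs))
  have := hi i
  simp at this

section Main

lemma mem_span_X_of_constantCoeff {S : Type*} [CommRing S] {n : ℕ} {p : MvPolynomial (Fin n) S}
    (hp : constantCoeff p = 0) : p ∈ Ideal.span (Set.range (X : Fin n → MvPolynomial (Fin n) S)) := by
  rw [← Set.image_univ, mem_ideal_span_X_image]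
  intro m hm
  by_contra! hne
  have hm0 : m = 0 := Finsupp.ext fun j ↦ hne j (Set.mem_univ j)
  rw [mem_support_iff, hm0, ← constantCoeff_eq, hp] at hm
  exact hm rfl

variable {k : Type u} [Field k] {n : ℕ} {W : Type u} [CommRing W] [Algebra k W]
  (f : Fin n → MvPolynomial (Fin n) k) (x : Fin n → W)

local notation "P" => MvPolynomial (Fin n) k

/-- translation to the universal point -/
noncomputable def shift : MvPolynomial (Fin n) k →ₐ[k] MvPolynomial (Fin n) W :=
  aeval fun j ↦ C (x j) + X j

lemma shift_C (c : k) : shift x (C c) = (C (algebraMap k W c) : MvPolynomial (Fin n) W) := by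
  simp [shift, IsScalarTower.algebraMap_apply k W (MvPolynomial (Fin n) W)]

lemma shift_X (j : Fin n) : shift (k := k) x (X j) = C (x j) + X j := by simp [shift]

lemma constantCoeff_shift (p : MvPolynomial (Fin n) k) : constantCoeff (shift x p) = aeval x p := by
  have : (constantCoeff (R := W) (σ := Fin n)).comp (shift (k := k) x).toRingHom = (aeval x).toRingHom := by
    refine ringHom_ext (fun c ↦ ?_) fun j ↦ ?_
    · simp [shift_C]
    · simp [shift_X]
  exact DFunLike.congr_fun this p

/-- evaluation at the difference of the two universal points -/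
noncomputable def diag : MvPolynomial (Fin n) W →+* W ⊗[k] W :=
  eval₂Hom (Algebra.TensorProduct.includeRight : W →ₐ[k] W ⊗[k] W).toRingHom
    fun j ↦ x j ⊗ₜ 1 - 1 ⊗ₜ x j

lemma diag_C (w : W) : diag (k := k) x (C w) = (1 : W) ⊗ₜ[k] w := by simp [diag]

lemma diag_X (j : Fin n) : diag (k := k) x (X j) = x j ⊗ₜ[k] 1 - 1 ⊗ₜ x j := by simp [diag]

lemma diag_shift (p : MvPolynomial (Fin n) k) : diag (k := k) x (shift x p) = aeval x p ⊗ₜ[k] (1 : W) := by
  have : (diag (k := k) x).comp (shift (k := k) x).toRingHom =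
      (Algebra.TensorProduct.includeLeft : W →ₐ[k] W ⊗[k] W).toRingHom.comp (aeval x).toRingHom := by
    refine ringHom_ext (fun c ↦ ?_) fun j ↦ ?_
    · simp only [RingHom.comp_apply, AlgHom.toRingHom_eq_coe, RingHom.coe_coe, shift_C, diag_C, aeval_C,
        Algebra.TensorProduct.includeLeft_apply]
      rw [Algebra.algebraMap_eq_smul_one, tmul_smul, smul_tmul']
    · simp [shift_X, diag_C, diag_X]
  exact DFunLike.congr_fun this p

variable (hf : ∀ i, aeval x (f i) = 0)

include hf in
lemma exists_matrix : ∃ a : Matrix (Fin n) (Fin n) (MvPolynomial (Fin n) W), a.mulVec X = fun i ↦ shift x (f i) := by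
  choose a ha using fun i ↦ Ideal.mem_span_range_iff_exists_fun.mp
    (mem_span_X_of_constantCoeff ((constantCoeff_shift x (f i)).trans (hf i)))
  exact ⟨Matrix.of a, funext fun i ↦ ha i⟩

variable (a : Matrix (Fin n) (Fin n) (MvPolynomial (Fin n) W)) (ha : a.mulVec X = fun i ↦ shift x (f i))
  (hsurj : Function.Surjective (aeval x : MvPolynomial (Fin n) k →ₐ[k] W))

/-- The Bezoutian. -/
noncomputable def bez : W ⊗[k] W := diag x a.det

include hf ha in
lemma diag_span_eq_zero {r : MvPolynomial (Fin n) W} (hr : r ∈ Ideal.span (Set.range (a.mulVec X))) :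
    diag (k := k) x r = 0 := by
  rw [← RingHom.mem_ker]
  refine Ideal.span_le.mpr ?_ hr
  rintro _ ⟨i, rfl⟩
  rw [ha, SetLike.mem_coe, RingHom.mem_ker, diag_shift, hf, zero_tmul]

include hf ha hsurj in
lemma tmul_one_mul_bez (w : W) : (w ⊗ₜ[k] (1 : W)) * bez x a = ((1 : W) ⊗ₜ[k] w) * bez x a := by
  obtain ⟨p, rfl⟩ := hsurj w
  rw [← sub_eq_zero, ← sub_mul, ← diag_shift, ← diag_C, ← map_sub, bez, ← map_mul]
  refine diag_span_eq_zero f x hf a ha ?_
  obtain ⟨c, hc⟩ := Ideal.mem_span_range_iff_exists_fun.mp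
    (mem_span_X_of_constantCoeff (p := shift x p - C (aeval x p))
      (by rw [map_sub, constantCoeff_shift, constantCoeff_C, sub_self]))
  rw [← hc, Finset.sum_mul]
  refine sum_mem fun j _ ↦ ?_
  rw [mul_assoc, mul_comm (X j)]
  exact Ideal.mul_mem_left _ _ (det_mul_Z_mem X a j)

/-- contraction of the left factor -/
noncomputable def contract (l : Module.Dual k W) : W ⊗[k] W →ₗ[k] W :=
  (TensorProduct.lid k W).toLinearMap ∘ₗ TensorProduct.map l LinearMap.id

lemma contract_tmul (l : Module.Dual k W) (v w : W) : contract l (v ⊗ₜ w) = l v • w := by simp [contract]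

/-- `λ ↦ (λ ⊗ 1) Δ` -/
noncomputable def theta : Module.Dual k W →ₗ[k] W where
  toFun l := contract l (bez x a)
  map_add' l l' := by
    generalize bez (k := k) x a = z
    induction z <;> simp_all [contract_tmul, add_smul, map_add, add_add_add_comm]
  map_smul' c l := by
    generalize bez (k := k) x a = z
    induction z <;> simp_all [contract_tmul, mul_smul]

lemma contract_one_tmul_mul (l : Module.Dual k W) (w : W) (z : W ⊗[k] W) :
    contract l (((1 : W) ⊗ₜ[k] w) * z) = w * contract l z := by
  induction z <;> simp_all [contract_tmul, mul_add]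

lemma contract_comp_mul (l : Module.Dual k W) (w : W) (z : W ⊗[k] W) :
    contract (l ∘ₗ LinearMap.mulLeft k w) z = contract l ((w ⊗ₜ[k] (1 : W)) * z) := by
  induction z <;> simp_all [contract_tmul, mul_add]

include hf ha hsurj in
lemma theta_comp_mul (l : Module.Dual k W) (w : W) :
    theta x a (l ∘ₗ LinearMap.mulLeft k w) = w * theta x a l := by
  change contract _ (bez x a) = w * contract l (bez x a)
  rw [contract_comp_mul, tmul_one_mul_bez f x hf a ha hsurj, contract_one_tmul_mul]

variable (hker : ∀ p : MvPolynomial (Fin n) k, aeval x p = 0 → p ∈ Ideal.span (Set.range f))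

include hf ha hsurj hker in
lemma theta_bijective [Module.Finite k W] : Function.Bijective (theta (k := k) x a) := by
  suffices hs : Function.Surjective (theta (k := k) x a) from
    ⟨(LinearMap.injective_iff_surjective_of_finrank_eq_finrank Subspace.dual_finrank_eq).mpr hs, hs⟩
  let 𝔞 : Ideal W :=
    { carrier := Set.range (theta (k := k) x a)
      add_mem' := by rintro _ _ ⟨l, rfl⟩ ⟨l', rfl⟩; exact ⟨l + l', map_add _ l l'⟩
      zero_mem' := ⟨0, map_zero _⟩
      smul_mem' := by rintro c _ ⟨l, rfl⟩; exact ⟨_, theta_comp_mul f x hf a ha hsurj l c⟩ }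
  suffices 𝔞 = ⊤ from fun w ↦ (this ▸ Submodule.mem_top : w ∈ 𝔞)
  by_contra hne
  obtain ⟨Y, hY, hle⟩ := Ideal.exists_le_maximal 𝔞 hne
  let := Ideal.Quotient.field Y
  let π : W →ₐ[k] W ⧸ Y := Ideal.Quotient.mkₐ k Y
  let πR : W ⊗[k] W →ₐ[k] W ⊗[k] (W ⧸ Y) := Algebra.TensorProduct.map (AlgHom.id k W) π
  have hzero : πR (bez x a) = 0 := by
    let b := Module.finBasis k W
    have hid : ∀ z : W ⊗[k] W, πR z = ∑ i, b i ⊗ₜ[k] π (contract (b.coord i) z) := by
      intro z
      induction z with
      | zero => simp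
      | add z z' hz hz' => simp [hz, hz', tmul_add, Finset.sum_add_distrib]
      | tmul v w =>
        simp only [πR, Algebra.TensorProduct.map_tmul, AlgHom.coe_id, id_eq, contract_tmul, map_smul, tmul_smul,
          smul_tmul']
        rw [← sum_tmul]
        congr 1
        simpa using (b.sum_repr v).symm
    rw [hid]
    refine Finset.sum_eq_zero fun i _ ↦ ?_
    rw [show π (contract (b.coord i) (bez x a)) = 0 from
      Ideal.Quotient.eq_zero_iff_mem.mpr (hle ⟨b.coord i, rfl⟩), tmul_zero]
  let hK : Fin n → MvPolynomial (Fin n) (W ⧸ Y) := fun i ↦ MvPolynomial.map π.toRingHom (shift x (f i))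
  let Q := MvPolynomial (Fin n) (W ⧸ Y) ⧸ Ideal.span (Set.range hK)
  let mkQ : MvPolynomial (Fin n) (W ⧸ Y) →ₐ[k] Q := Ideal.Quotient.mkₐ k _
  let ev : MvPolynomial (Fin n) k →ₐ[k] Q := mkQ.comp (shift (k := k) fun j ↦ π (x j))
  have hev : ∀ p, shift (k := k) (fun j ↦ π (x j)) p = MvPolynomial.map π.toRingHom (shift x p) := by
    intro p
    have : (shift (k := k) fun j ↦ π (x j)).toRingHom =
        (MvPolynomial.map π.toRingHom).comp (shift (k := k) x).toRingHom := by
      refine ringHom_ext (fun c ↦ ?_) fun j ↦ ?_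
      · simp [shift_C]
      · simp [shift_X]
    exact DFunLike.congr_fun this p
  let e := Ideal.quotientKerAlgEquivOfSurjective hsurj
  have hI : ∀ p ∈ RingHom.ker (aeval x : MvPolynomial (Fin n) k →ₐ[k] W), ev p = 0 := fun p hp ↦ by
    refine RingHom.mem_ker.mp ((Ideal.span_le (I := RingHom.ker ev.toRingHom)).mpr ?_ (hker p hp))
    rintro _ ⟨i, rfl⟩
    refine (congrArg mkQ (hev (f i))).trans ?_
    exact Ideal.Quotient.eq_zero_iff_mem.mpr (Ideal.subset_span ⟨i, rfl⟩)
  let evW : W →ₐ[k] Q := (Ideal.Quotient.liftₐ _ ev hI).comp e.symm.toAlgHom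
  have hevW : ∀ p, evW (aeval x p) = ev p := fun p ↦ by
    have : e.symm (aeval x p) = Ideal.Quotient.mk _ p := e.injective ((e.apply_symm_apply _).trans rfl)
    exact (congrArg (Ideal.Quotient.liftₐ _ ev hI) this).trans rfl
  let ρ : W ⊗[k] (W ⧸ Y) →ₐ[k] Q :=
    Algebra.TensorProduct.lift evW (IsScalarTower.toAlgHom k (W ⧸ Y) Q) fun a b ↦
      @Commute.all Q CommRing.toCommMonoid.toCommSemigroup.toCommMagma (evW a) (IsScalarTower.toAlgHom k (W ⧸ Y) Q b)
  have hcomp : (ρ.comp πR).toRingHom.comp (diag (k := k) x) =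
      (mkQ.toRingHom).comp (MvPolynomial.map π.toRingHom) := by
    refine ringHom_ext (fun w ↦ ?_) fun j ↦ ?_
    · simp only [RingHom.comp_apply, diag_C, AlgHom.toRingHom_eq_coe, RingHom.coe_coe, AlgHom.comp_apply, map_C, πR,
        Algebra.TensorProduct.map_tmul, AlgHom.coe_id, id_eq, ρ, Algebra.TensorProduct.lift_tmul, map_one, one_mul]
      rfl
    · simp only [RingHom.comp_apply, diag_X, AlgHom.toRingHom_eq_coe, RingHom.coe_coe, AlgHom.comp_apply, map_X, πR,
        map_sub, Algebra.TensorProduct.map_tmul, AlgHom.coe_id, id_eq, ρ, Algebra.TensorProduct.lift_tmul, map_one,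
        one_mul, mul_one]
      rw [show x j = aeval x (X j : MvPolynomial (Fin n) k) by rw [aeval_X], hevW]
      change mkQ (shift (k := k) (fun j ↦ π (x j)) (X j)) - mkQ (C (π (aeval x (X j : MvPolynomial (Fin n) k)))) = _
      rw [shift_X, aeval_X, map_add, add_sub_cancel_left]
  have hfinQ : Module.Finite (W ⧸ Y) Q := by
    have hs : Function.Surjective ρ := fun q ↦ by
      obtain ⟨p, rfl⟩ := Ideal.Quotient.mk_surjective q
      obtain ⟨r, rfl⟩ := MvPolynomial.map_surjective π.toRingHom Ideal.Quotient.mk_surjective p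
      exact ⟨πR (diag x r), DFunLike.congr_fun hcomp r⟩
    have : Module.Finite k Q := Module.Finite.of_surjective ρ.toLinearMap hs
    exact Module.Finite.of_restrictScalars_finite k _ _
  have hmap : (a.map (MvPolynomial.map π.toRingHom)).mulVec X = hK := by
    funext i
    have := congrFun ha i
    simp only [hK, ← this, Matrix.mulVec, dotProduct, map_sum, map_mul, map_X, Matrix.map_apply]
  refine det_not_mem (a.map (MvPolynomial.map π.toRingHom)) (by rw [hmap]; exact hfinQ) ?_
  rw [hmap, ← Ideal.Quotient.eq_zero_iff_mem,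
    show (a.map (MvPolynomial.map π.toRingHom)).det = MvPolynomial.map π.toRingHom a.det from
      (RingHom.map_det _ a).symm]
  refine (DFunLike.congr_fun hcomp a.det).symm.trans ?_
  change ρ (πR (bez x a)) = 0
  rw [hzero, map_zero]

include hf hsurj hker in
/-- The main theorem. -/
theorem exists_invariant_pairing [Module.Finite k W] {G : Type v} [Group G] [MulSemiringAction G W]
    [SMulCommClass G k W] (ρ : G →* Matrix.GeneralLinearGroup (Fin n) k)
    (hdet : ∀ g : G, Matrix.det ((ρ g : Matrix (Fin n) (Fin n) k)) = 1)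
    (hX : ∀ (g : G) (i : Fin n), g • x i = ∑ j : Fin n, (ρ g : Matrix (Fin n) (Fin n) k) j i • x j)
    (hgf : ∀ (g : G) i,
      aeval (fun i ↦ ∑ j : Fin n, C ((ρ g : Matrix (Fin n) (Fin n) k) j i) * (X j : MvPolynomial (Fin n) k)) (f i) =
        f i) :
    ∃ l : Module.Dual k W, (∀ (g : G) (w : W), l (g • w) = l w) ∧ ∀ w, (∀ v, l (w * v) = 0) → w = 0 := by
  obtain ⟨a, ha⟩ := exists_matrix f x hf
  obtain ⟨l, hl⟩ := (theta_bijective f x hf a ha hsurj hker).2 1
  refine ⟨l, fun g w ↦ ?_, fun w hw ↦ ?_⟩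
  swap
  · have : l ∘ₗ LinearMap.mulLeft k w = 0 := LinearMap.ext fun v ↦ hw v
    have h := theta_comp_mul f x hf a ha hsurj l w
    rw [this, map_zero, hl, mul_one] at h
    exact h.symm
  let σ : G → W →ₐ[k] W := fun g ↦ MulSemiringAction.toAlgHom k W g
  let M : Matrix (Fin n) (Fin n) k := (ρ g : Matrix (Fin n) (Fin n) k).transpose
  let τ : MvPolynomial (Fin n) k →ₐ[k] MvPolynomial (Fin n) k := aeval fun i ↦ ∑ j, C (M i j) * X j
  have hτ : ∀ i, τ (f i) = f i := fun i ↦ hgf g i
  have hσx : ∀ i, σ g (x i) = ∑ j, M i j • x j := fun i ↦ hX g i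
  let γ : MvPolynomial (Fin n) W →+* MvPolynomial (Fin n) W :=
    eval₂Hom (C.comp (σ g).toRingHom) fun j ↦ ∑ l, C (algebraMap k W (M j l)) * X l
  have hγX : ∀ j, γ (X j) = ∑ l, C (algebraMap k W (M j l)) * X l := fun j ↦ by simp [γ]
  have hγC : ∀ w, γ (C w) = C (σ g w) := fun w ↦ by simp [γ]
  have hγshift : ∀ q, γ (shift x q) = shift x (τ q) := by
    intro q
    have : γ.comp (shift (k := k) x).toRingHom = ((shift (k := k) x).comp τ).toRingHom := by
      refine ringHom_ext (fun c ↦ ?_) fun i ↦ ?_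
      · simp [shift_C, hγC, τ]
      · simp [shift_X, shift_C, hγC, hγX, τ, hσx, Algebra.smul_def, mul_add, Finset.sum_add_distrib]
    exact DFunLike.congr_fun this q
  let a' : Matrix (Fin n) (Fin n) (MvPolynomial (Fin n) W) :=
    a.map γ * M.map ((C : W →+* MvPolynomial (Fin n) W).comp (algebraMap k W))
  have ha' : a.mulVec X = a'.mulVec X := by
    simp only [a', ← Matrix.mulVec_mulVec]
    have hMX : (M.map ((C : W →+* MvPolynomial (Fin n) W).comp (algebraMap k W))).mulVec X = fun j ↦ γ (X j) := by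
      funext j
      rw [hγX]
      rfl
    rw [hMX, ha]
    funext i
    conv_lhs => rw [← hτ i, ← hγshift, ← congrFun ha i]
    simp [Matrix.mulVec, dotProduct, map_sum]
  have hdet' : a'.det = γ a.det := by
    simp only [a', Matrix.det_mul]
    rw [show a.map γ = γ.mapMatrix a from rfl,
      show M.map ((C : W →+* MvPolynomial (Fin n) W).comp (algebraMap k W)) =
        ((C : W →+* MvPolynomial (Fin n) W).comp (algebraMap k W)).mapMatrix M from rfl,
      ← RingHom.map_det, ← RingHom.map_det, show M.det = 1 by rw [Matrix.det_transpose, hdet], map_one, mul_one]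
  have hdiag : ∀ r, diag (k := k) x (γ r) = Algebra.TensorProduct.map (σ g) (σ g) (diag (k := k) x r) := by
    intro r
    have : (diag (k := k) x).comp γ = (Algebra.TensorProduct.map (σ g) (σ g)).toRingHom.comp (diag (k := k) x) := by
      refine ringHom_ext (fun w ↦ ?_) fun j ↦ ?_
      · simp [hγC, diag_C]
      · simp [hγX, diag_C, diag_X, hσx, sum_tmul, tmul_sum, ← Finset.sum_sub_distrib, mul_sub,
          Algebra.algebraMap_eq_smul_one, smul_tmul', tmul_smul]
    exact DFunLike.congr_fun this r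
  have hbez : Algebra.TensorProduct.map (σ g) (σ g) (bez x a) = bez x a := by
    rw [bez, ← hdiag, ← hdet', eq_comm, ← sub_eq_zero, ← map_sub]
    exact diag_span_eq_zero f x hf a ha (det_sub_mem X (isVarLike_X W n) a a' ha')
  have hkey : σ g (contract (l ∘ₗ (σ g).toLinearMap) (bez x a)) = contract l (bez x a) := by
    conv_rhs => rw [← hbez]
    generalize bez (k := k) x a = z
    induction z <;> simp_all [contract_tmul]
  have heq : l ∘ₗ (σ g).toLinearMap = l := by
    refine (theta_bijective f x hf a ha hsurj hker).1 ?_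
    rw [hl]
    have h1 : σ g (theta x a (l ∘ₗ (σ g).toLinearMap)) = 1 := hkey.trans hl
    exact MulAction.injective g (h1.trans (smul_one g).symm)
  exact DFunLike.congr_fun heq w

end Main

end Groth.InvTheory.Bezout
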