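import Groth.Agent.LocCohBase.DepthLocal
import Groth.Agent.LocCohBase.CM
import Groth.Agent.InvTheory.FiniteGroupScheme
import Groth.Agent.GitQuot.Reynolds

/-!
Depth and heights along the quotient by a linearly reductive finite group scheme.
-/

universe u

open TensorProduct CategoryTheory
open scoped Pointwise

namespace Groth.InvTheory

section Descend

variable {A R : Type u} [CommRing A] [CommRing R] [Algebra A R] [IsNoetherianRing A] [IsNoetherianRing R]
  [Module.Finite A R]

omit [IsNoetherianRing A] [IsNoetherianRing R] [Module.Finite A R] in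
lemma map_smul_top_restrictScalars (I : Ideal A) (M : Type u) [AddCommGroup M] [Module R M] [Module A M]
    [IsScalarTower A R M] :
    ((I.map (algebraMap A R)) • (⊤ : Submodule R M)).restrictScalars A = I • (⊤ : Submodule A M) := by
  rw [Ideal.smul_restrictScalars, Submodule.restrictScalars_top]

theorem le_idealDepth_of_le_idealDepth_map (I : Ideal A) (n : ℕ) :
    ∀ (M : Type u) [AddCommGroup M] [Module R M] [Module A M] [IsScalarTower A R M] [Module.Finite R M],
      (n : ℕ∞) ≤ LocCoh.idealDepth (I.map (algebraMap A R)) M → (n : ℕ∞) ≤ LocCoh.idealDepth I M := by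
  induction n with
  | zero => exact fun _ _ _ _ _ _ _ => by simp
  | succ n ih =>
    intro M _ _ _ _ _ h
    have : Module.Finite A M := Module.Finite.trans R M
    by_cases hIM : I • (⊤ : Submodule A M) = ⊤
    · rw [Groth.LocCohBase.idealDepth_eq_top_of_smul_top_eq_top hIM]; exact le_top
    have hIN : I.map (algebraMap A R) • (⊤ : Submodule R M) ≠ ⊤ := fun e ↦ hIM (by
      rw [← map_smul_top_restrictScalars (R := R), e, Submodule.restrictScalars_top])
    have h1 : (1 : ℕ∞) ≤ LocCoh.idealDepth I M := by
      rw [Groth.LocCohBase.one_le_idealDepth_iff]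
      intro q hq hle
      obtain ⟨hprime, a, ha⟩ := isAssociatedPrime_iff.mp hq
      obtain ⟨y, hy, hreg⟩ := Groth.LocCohBase.exists_regular_of_one_le hIN
        (le_trans (by exact_mod_cast Nat.succ_pos n) h)
      have hann : I.map (algebraMap A R) ≤ ((⊥ : Submodule R M).colon {a}) := by
        rw [Ideal.map_le_iff_le_comap]
        intro r hr
        have := hle hr
        rw [ha, Submodule.mem_colon_singleton, Submodule.mem_bot] at this
        rw [Ideal.mem_comap, Submodule.mem_colon_singleton, Submodule.mem_bot, algebraMap_smul, this]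
      have h0 := Submodule.mem_colon_singleton.mp (hann hy)
      rw [Submodule.mem_bot] at h0
      have ha0 : a = 0 := hreg (h0.trans (smul_zero y).symm)
      apply hprime.ne_top
      rw [ha, ha0, Ideal.eq_top_iff_one, Submodule.mem_colon_singleton, smul_zero]
      exact zero_mem _
    obtain ⟨x, hx, hreg⟩ := Groth.LocCohBase.exists_regular_of_one_le hIM h1
    have hregN : IsSMulRegular M (algebraMap A R x) := fun u v e ↦ hreg (by simpa [algebraMap_smul] using e)
    rw [← Groth.LocCohBase.idealDepth_quotSMulTop_add_one _ M hIM hx hreg, Nat.cast_succ]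
    rw [← Groth.LocCohBase.idealDepth_quotSMulTop_add_one _ M hIN
      (Ideal.mem_map_of_mem _ hx) hregN, Nat.cast_succ, ENat.add_le_add_iff_right (by simp)] at h
    have h2 := ih (QuotSMulTop (algebraMap A R x) M) h
    have e : (algebraMap A R x • (⊤ : Submodule R M)).restrictScalars A = x • (⊤ : Submodule A M) := by
      ext v
      simp only [Submodule.restrictScalars_mem, Submodule.mem_smul_pointwise_iff_exists, Submodule.mem_top,
        true_and, algebraMap_smul]
    let φ : QuotSMulTop (algebraMap A R x) M ≃ₗ[A] QuotSMulTop x M :=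
      (Submodule.Quotient.restrictScalarsEquiv A (algebraMap A R x • (⊤ : Submodule R M))).symm ≪≫ₗ
        Submodule.quotEquivOfEq _ _ e
    rw [Groth.LocCohBase.idealDepth_congr φ] at h2
    exact add_le_add_left h2 1

theorem le_idealDepth_retract {N M : Type u} [AddCommGroup N] [Module A N] [Module.Finite A N]
    [AddCommGroup M] [Module A M] [Module.Finite A M] (i : N →ₗ[A] M) (E : M →ₗ[A] N) (h : E ∘ₗ i = LinearMap.id)
    (I : Ideal A) (n : ℕ) (hn : (n : ℕ∞) ≤ LocCoh.idealDepth I M) : (n : ℕ∞) ≤ LocCoh.idealDepth I N := by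
  rw [Groth.LocCohBase.le_idealDepth_iff] at hn ⊢
  intro j hj
  have := hn j hj
  refine subsingleton_of_forall_eq 0 fun z ↦ ?_
  have e : (ModuleCat.ofHom i ≫ ModuleCat.ofHom E) = 𝟙 (ModuleCat.of A N) := by
    rw [← ModuleCat.ofHom_comp, h]; rfl
  rw [← Abelian.Ext.comp_mk₀_id z, ← e, ← Abelian.Ext.mk₀_comp_mk₀,
    ← Abelian.Ext.comp_assoc_of_third_deg_zero z (Abelian.Ext.mk₀ (ModuleCat.ofHom i))
      (Abelian.Ext.mk₀ (ModuleCat.ofHom E)) (add_zero _),
    Subsingleton.elim (z.comp (Abelian.Ext.mk₀ (ModuleCat.ofHom i)) (add_zero _)) 0, Abelian.Ext.zero_comp]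

end Descend

variable {k : Type u} [Field k] {H : Type u} [CommRing H] [HopfAlgebra k H] [Module.Finite k H]
  {R : Type u} [CommRing R] [Algebra k R] [HopfRep.Comod k H R] [Algebra.FiniteType k R]
  {A : Subalgebra k R}

/-- Depth over the invariants at a prime `p` is bounded below by the depths at the primes over it. -/
theorem le_depth_invariants (hG : HopfRep.IsLinearlyReductive k H)
    (hmul : ∀ x y : R, HopfRep.Comod.coact (k := k) (A := H) (x * y) =
        HopfRep.Comod.coact (k := k) (A := H) x * HopfRep.Comod.coact (k := k) (A := H) y)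
    (hone : HopfRep.Comod.coact (k := k) (A := H) (1 : R) = 1)
    (hA : ∀ a : R, a ∈ A ↔ HopfRep.Comod.coact (k := k) (A := H) a = a ⊗ₜ[k] (1 : H))
    (p : Ideal A) [p.IsPrime] (n : ℕ)
    (h : ∀ (q : Ideal R) [q.IsPrime], p ≤ q.comap (algebraMap A R) →
      (n : ℕ∞) ≤ LocCoh.depth (Localization.AtPrime q) (LocalizedModule q.primeCompl R)) :
    (n : ℕ∞) ≤ LocCoh.depth (Localization.AtPrime p) (LocalizedModule p.primeCompl R) ∧
      (n : ℕ∞) ≤ LocCoh.depth (Localization.AtPrime p) (LocalizedModule p.primeCompl A) := by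
  have := finite_invariants hmul hone hA
  have := finiteType_invariants hmul hone hA
  have : IsNoetherianRing A := Algebra.FiniteType.isNoetherianRing k A
  have : IsNoetherianRing R := Algebra.FiniteType.isNoetherianRing k R
  have h1 : (n : ℕ∞) ≤ LocCoh.idealDepth (p.map (algebraMap A R)) R :=
    Groth.LocCohBase.le_idealDepth_of_forall_depth _ n R fun q _ hq ↦ h q (Ideal.map_le_iff_le_comap.mp hq)
  have h2 : (n : ℕ∞) ≤ LocCoh.idealDepth p R := le_idealDepth_of_le_idealDepth_map p n R h1
  refine ⟨h2.trans (Groth.LocCohBase.idealDepth_le_depth_localized p p le_rfl R), ?_⟩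
  obtain ⟨E, hE⟩ := Groth.GitQuot.exists_reynolds (V := R) hG
  have hmem : ∀ x, E x ∈ A := fun x ↦ (hA _).mpr (hE.apply_mem x)
  let E' : R →ₗ[A] A :=
    { toFun := fun x ↦ ⟨E x, hmem x⟩
      map_add' := fun x y ↦ Subtype.ext (map_add E x y)
      map_smul' := fun a x ↦ Subtype.ext (by
        change E ((a : R) * x) = (a : R) * E x
        rw [mul_comm, hE.map_mul hmul hG x (y := (a : R)) ((hA _).mp a.2), mul_comm]) }
  have hEi : E' ∘ₗ Algebra.linearMap A R = LinearMap.id :=
    LinearMap.ext fun a ↦ Subtype.ext ((hE.fixed _).mpr ((hA _).mp a.2))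
  exact (le_idealDepth_retract (Algebra.linearMap A R) E' hEi p n h2).trans
    (Groth.LocCohBase.idealDepth_le_depth_localized p p le_rfl A)

end Groth.InvTheory
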