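import Mathlib.RingTheory.IntegralClosure.IntegrallyClosed
import Mathlib.RingTheory.Localization.FractionRing
import Mathlib.Tactic.LinearCombination

/-!
The equalizer of ring maps out of a finite product of integrally closed domains which preserve
non-zero-divisors is again a finite product of integrally closed domains.
-/

universe u v

namespace Groth.InvTheory

variable {ι : Type u} {D : ι → Type u} [∀ i, CommRing (D i)] [∀ i, IsDomain (D i)]

open scoped Classical in
/-- The idempotent supported on a set of indices. -/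
noncomputable def ind (T : Finset ι) : Π i, D i := fun i ↦ if i ∈ T then 1 else 0

lemma ind_mul_ind [DecidableEq ι] (S T : Finset ι) : (ind S : Π i, D i) * ind T = ind (S ∩ T) := by
  ext i; simp only [ind, Pi.mul_apply, Finset.mem_inter]; split_ifs <;> simp_all

lemma one_sub_ind [DecidableEq ι] [Fintype ι] (S : Finset ι) : (1 : Π i, D i) - ind S = ind Sᶜ := by
  ext i; simp only [ind, Pi.sub_apply, Pi.one_apply, Finset.mem_compl]; split_ifs <;> simp_all

lemma mem_nonZeroDivisors_pi {c : Π i, D i} (hc : ∀ i, c i ≠ 0) : c ∈ nonZeroDivisors (Π i, D i) :=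
  mem_nonZeroDivisors_iff_right.mpr fun x hx ↦ funext fun i ↦
    (mul_eq_zero.mp (congrFun hx i)).resolve_right (hc i)

/-- A subring of a product of domains, closed under supports and cancellation. -/
structure IsSaturated (A : Subring (Π i, D i)) : Prop where
  supp_mem : ∀ a ∈ A, ∀ T : Finset ι, (∀ i, i ∈ T ↔ a i ≠ 0) → ind T ∈ A
  mem_of_mul_mem : ∀ y c, c ∈ A → y * c ∈ A → (∀ i, c i ≠ 0) → y ∈ A

lemma isSaturated_equalizer {R : Type v} [CommRing R] (F : Set ((Π i, D i) →+* R))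
    (hF : ∀ f ∈ F, ∀ s ∈ nonZeroDivisors (Π i, D i), f s ∈ nonZeroDivisors R)
    (A : Subring (Π i, D i)) (hA : ∀ a, a ∈ A ↔ ∀ f ∈ F, ∀ f' ∈ F, f a = f' a) : IsSaturated A := by
  classical
  constructor
  · intro a ha T hT
    refine (hA _).mpr fun f hf f' hf' ↦ ?_
    have hr : f a = f' a := (hA a).mp ha f hf f' hf'
    set s : Π i, D i := ind T with hs
    have has : a * s = a := by
      ext i; by_cases h : a i = 0 <;> simp [hs, ind, hT, h]
    have hu : ∀ i, (a + (1 - s)) i ≠ 0 := fun i ↦ by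
      by_cases h : a i = 0 <;> simp [hs, ind, hT, h]
    have hss : s * s = s := by rw [hs, ind_mul_ind, Finset.inter_self]
    have key : ∀ (g g' : (Π i, D i) →+* R), g ∈ F → g a = g' a → g s * (1 - g' s) = 0 := fun g g' hg h ↦ by
      have h1 : g (a + (1 - s)) * (g s * (1 - g' s)) = 0 := by
        rw [← mul_assoc, ← map_mul, show (a + (1 - s)) * s = a by
          rw [add_mul, has, sub_mul, one_mul, hss, sub_self, add_zero], h, mul_sub, mul_one, ← map_mul, has, sub_self]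
      exact (mem_nonZeroDivisors_iff_left.mp (hF g hg _ (mem_nonZeroDivisors_pi hu))) _ h1
    have h1 := key f f' hf hr
    have h2 := key f' f hf' hr.symm
    linear_combination h1 - h2
  · intro y c hc hyc hc0
    refine (hA y).mpr fun f hf f' hf' ↦ ?_
    have e1 := (hA c).mp hc f hf f' hf'
    have e2 := (hA _).mp hyc f hf f' hf'
    rw [map_mul, map_mul, ← e1] at e2
    exact (mul_cancel_right_mem_nonZeroDivisors (hF f hf c (mem_nonZeroDivisors_pi hc0))).mp e2

variable [Fintype ι]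

/-- The partition of the index set into atoms. -/
lemma exists_blocks {A : Subring (Π i, D i)} (hA : IsSaturated A) :
    ∃ blk : ι → Finset ι, (∀ i, i ∈ blk i) ∧ (∀ i j, j ∈ blk i → blk j = blk i) ∧
      (∀ i, (ind (blk i) : Π i, D i) ∈ A) ∧
      ∀ a ∈ A, ∀ i, ∀ j ∈ blk i, a i ≠ 0 → a j ≠ 0 := by
  classical
  let 𝒯 : Finset (Finset ι) := Finset.univ.filter fun T ↦ (ind T : Π i, D i) ∈ A
  have h𝒯 : ∀ T, T ∈ 𝒯 ↔ (ind T : Π i, D i) ∈ A := fun T ↦ by simp [𝒯]
  let blk : ι → Finset ι := fun i ↦ Finset.univ.filter fun j ↦ ∀ T ∈ 𝒯, i ∈ T → j ∈ T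
  have hblk : ∀ i j, j ∈ blk i ↔ ∀ T ∈ 𝒯, i ∈ T → j ∈ T := fun i j ↦ by simp [blk]
  refine ⟨blk, fun i ↦ (hblk i i).mpr fun _ _ h ↦ h, fun i j hj ↦ ?_, fun i ↦ ?_, fun a ha i j hj hi ↦ ?_⟩
  · have hij : i ∈ blk j := (hblk j i).mpr fun T hT hjT ↦ by
      by_contra hiT
      have hc : Tᶜ ∈ 𝒯 := (h𝒯 _).mpr (by rw [← one_sub_ind]; exact sub_mem (one_mem _) ((h𝒯 T).mp hT))
      exact Finset.mem_compl.mp ((hblk i j).mp hj _ hc (Finset.mem_compl.mpr hiT)) hjT
    ext l
    exact ⟨fun hl ↦ (hblk i l).mpr fun T hT hiT ↦ (hblk j l).mp hl T hT ((hblk i j).mp hj T hT hiT),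
      fun hl ↦ (hblk j l).mpr fun T hT hjT ↦ (hblk i l).mp hl T hT ((hblk j i).mp hij T hT hjT)⟩
  · have : (ind (blk i) : Π i, D i) = ∏ T ∈ 𝒯.filter (i ∈ ·), ind T := by
      ext j
      rw [Finset.prod_apply]
      by_cases hj : j ∈ blk i
      · simp only [ind, if_pos hj]
        refine (Finset.prod_eq_one fun T hT ↦ ?_).symm
        rw [if_pos ((hblk i j).mp hj T (Finset.mem_filter.mp hT).1 (Finset.mem_filter.mp hT).2)]
      · simp only [ind, if_neg hj]
        rw [hblk] at hj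
        push Not at hj
        obtain ⟨T, hT, hiT, hjT⟩ := hj
        exact (Finset.prod_eq_zero (Finset.mem_filter.mpr ⟨hT, hiT⟩) (if_neg hjT)).symm
    rw [this]
    exact prod_mem fun T hT ↦ (h𝒯 T).mp (Finset.mem_filter.mp hT).1
  · exact (Finset.mem_filter.mp ((hblk i j).mp hj (Finset.univ.filter fun l ↦ a l ≠ 0)
      ((h𝒯 _).mpr (hA.supp_mem a ha _ fun l ↦ by simp))
      (Finset.mem_filter.mpr ⟨Finset.mem_univ _, hi⟩))).2

/-- Restriction to a set of indices. -/
def restrict (A : Subring (Π i, D i)) (K : Finset ι) : A →+* (Π j : {j // j ∈ K}, D j) :=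
  RingHom.pi fun j ↦ (Pi.evalRingHom D j).comp A.subtype

@[simp] lemma restrict_apply (A : Subring (Π i, D i)) (K : Finset ι) (a : A) (j : {j // j ∈ K}) :
    restrict A K a j = (a : Π i, D i) j := rfl

variable {A : Subring (Π i, D i)} {K : Finset ι}

omit [Fintype ι] in
lemma isDomain_range (hne : K.Nonempty)
    (hall : ∀ a ∈ A, ∀ i ∈ K, ∀ j ∈ K, a i ≠ 0 → a j ≠ 0) : IsDomain (restrict A K).range := by
  obtain ⟨i, hi⟩ := hne
  have : NoZeroDivisors (restrict A K).range := ⟨fun {x y} hxy ↦ by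
    obtain ⟨_, a, rfl⟩ := x
    obtain ⟨_, b, rfl⟩ := y
    by_contra! h
    have hex : ∀ c : A, (⟨restrict A K c, c, rfl⟩ : (restrict A K).range) ≠ 0 → (c : Π i, D i) i ≠ 0 :=
      fun c hc h0 ↦ hc (Subtype.ext (funext fun l ↦ by
        by_contra hl; exact hall c c.2 l l.2 i hi hl h0))
    exact mul_ne_zero (hex a h.1) (hex b h.2) (congrFun (congrArg Subtype.val hxy) ⟨i, hi⟩)⟩
  have : Nontrivial (restrict A K).range := ⟨⟨0, 1, fun h ↦ zero_ne_one (α := D i)
    (congrFun (congrArg Subtype.val h) ⟨i, hi⟩)⟩⟩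
  exact NoZeroDivisors.to_isDomain _

omit [Fintype ι] in
lemma isIntegrallyClosed_range [∀ i, IsIntegrallyClosed (D i)] (hA : IsSaturated A) (hKA : ind K ∈ A)
    (hne : K.Nonempty) (hall : ∀ a ∈ A, ∀ i ∈ K, ∀ j ∈ K, a i ≠ 0 → a j ≠ 0) :
    IsIntegrallyClosed (restrict A K).range := by
  classical
  set E := (restrict A K).range
  have : IsDomain E := isDomain_range hne hall
  refine (isIntegrallyClosed_iff (FractionRing E)).mpr fun {x} hx ↦ ?_
  obtain ⟨⟨⟨_, b, rfl⟩, ⟨⟨_, c, rfl⟩, hc⟩⟩, hxbc⟩ := IsLocalization.surj (nonZeroDivisors E) x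
  have hc' : ∀ i ∈ K, (c : Π i, D i) i ≠ 0 := fun i hi h0 ↦ nonZeroDivisors.ne_zero hc (Subtype.ext (funext fun l ↦ by
    by_contra hl; exact hall c c.2 l l.2 i hi hl h0))
  have hy : ∀ j : {j // j ∈ K}, ∃ y : D j, y * (c : Π i, D i) j = (b : Π i, D i) j := fun j ↦ by
    let π : E →+* D j := (Pi.evalRingHom _ j).comp E.subtype
    have hπ : Function.Injective π := (injective_iff_map_eq_zero π).mpr fun e he ↦ by
      obtain ⟨_, a, rfl⟩ := e
      exact Subtype.ext (funext fun l ↦ by by_contra hl; exact hall a a.2 l l.2 j j.2 hl he)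
    have hg : Function.Injective ((algebraMap (D j) (FractionRing (D j))).comp π) :=
      (IsFractionRing.injective (D j) (FractionRing (D j))).comp hπ
    let ψ : FractionRing E →+* FractionRing (D j) := IsFractionRing.lift (A := E) hg
    have e1 : ∀ z, ψ (algebraMap E (FractionRing E) z) = algebraMap (D j) (FractionRing (D j)) (π z) :=
      fun z ↦ IsFractionRing.lift_algebraMap hg z
    obtain ⟨y, hy⟩ := IsIntegrallyClosed.isIntegral_iff.mp
      (hx.map_of_comp_eq π ψ (RingHom.ext fun z ↦ (e1 z).symm))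
    refine ⟨y, IsFractionRing.injective (D j) (FractionRing (D j)) ?_⟩
    have e := congrArg ψ hxbc
    rw [map_mul, e1, e1, ← hy, ← map_mul] at e
    exact e
  choose y hy using hy
  let Y : Π i, D i := fun i ↦ if h : i ∈ K then y ⟨i, h⟩ else 0
  set c₀ : Π i, D i := c.1 with hc₀
  set b₀ : Π i, D i := b.1 with hb₀
  set e₀ : Π i, D i := ind K with he₀
  have hc'0 : ∀ i, (c₀ * e₀ + (1 - e₀)) i ≠ 0 := fun i ↦ by
    by_cases h : i ∈ K
    · simpa [c₀, e₀, ind, h] using hc' i h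
    · simp [e₀, ind, h]
  have hYc : Y * (c₀ * e₀ + (1 - e₀)) = b₀ * e₀ := by
    ext i
    by_cases h : i ∈ K
    · simpa [Y, c₀, b₀, e₀, ind, h] using hy ⟨i, h⟩
    · simp [Y, e₀, ind, h]
  have hY : Y ∈ A := hA.mem_of_mul_mem Y _ (add_mem (mul_mem c.2 hKA) (sub_mem (one_mem _) hKA))
    (by rw [hYc]; exact mul_mem b.2 hKA) hc'0
  refine ⟨(restrict A K).rangeRestrict ⟨Y, hY⟩,
    (IsLocalization.map_units (M := nonZeroDivisors E) _ ⟨_, hc⟩).mul_left_injective ?_⟩
  refine Eq.trans ?_ hxbc.symm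
  change algebraMap E (FractionRing E) _ * algebraMap E (FractionRing E) _ = _
  rw [← map_mul]
  refine congrArg _ (Subtype.ext (funext fun j ↦ ?_))
  change Y j * (c : Π i, D i) j = (b : Π i, D i) j
  simpa [Y] using hy j

theorem exists_pi_normal_of_saturated [∀ i, IsIntegrallyClosed (D i)]
    (A : Subring (Π i, D i)) (hA : IsSaturated A) :
    ∃ (κ : Type u) (_ : Fintype κ) (E : κ → Type u) (_ : ∀ j, CommRing (E j)) (_ : ∀ j, IsDomain (E j))
      (_ : ∀ j, IsIntegrallyClosed (E j)), Nonempty (A ≃+* Π j, E j) := by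
  classical
  obtain ⟨blk, hmem, heq, hblkA, hall⟩ := exists_blocks hA
  let κ := {K : Finset ι // ∃ i, blk i = K}
  have hK : ∀ (K : κ) (j : ι), j ∈ K.1 → blk j = K.1 := by
    rintro ⟨_, i, rfl⟩ j hj; exact heq i j hj
  have hKA : ∀ K : κ, (ind K.1 : Π i, D i) ∈ A := by
    rintro ⟨_, i, rfl⟩; exact hblkA i
  have hne : ∀ K : κ, K.1.Nonempty := by
    rintro ⟨_, i, rfl⟩; exact ⟨i, hmem i⟩
  have hall' : ∀ (K : κ), ∀ a ∈ A, ∀ i ∈ K.1, ∀ j ∈ K.1, a i ≠ 0 → a j ≠ 0 := fun K a ha i hi j hj ↦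
    hall a ha i j ((hK K i hi).symm ▸ hj)
  let Φ : A →+* Π K : κ, (restrict A K.1).range := RingHom.pi fun K ↦ (restrict A K.1).rangeRestrict
  have hΦ : Function.Bijective Φ := by
    refine ⟨fun a b h ↦ Subtype.ext (funext fun i ↦ ?_), fun e ↦ ?_⟩
    · exact congrFun (congrArg Subtype.val (congrFun h ⟨blk i, i, rfl⟩)) ⟨i, hmem i⟩
    · choose g hg using fun K ↦ (e K).2
      refine ⟨∑ K, g K * ⟨ind K.1, hKA K⟩, funext fun K ↦ Subtype.ext (funext fun j ↦ ?_)⟩
      change (∑ L, g L * (⟨ind L.1, hKA L⟩ : A)).1 j = (e K).1 j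
      rw [AddSubmonoidClass.coe_finsetSum, Finset.sum_apply, ← hg K, Finset.sum_eq_single K]
      · simp [ind]
      · intro L _ hL
        have : j.1 ∉ L.1 := fun h ↦ hL (Subtype.ext ((hK L j h).symm.trans (hK K j j.2)))
        simp [ind, this]
      · simp
  exact ⟨κ, inferInstance, fun K ↦ (restrict A K.1).range, fun _ ↦ inferInstance,
    fun K ↦ isDomain_range (hne K) (hall' K),
    fun K ↦ isIntegrallyClosed_range hA (hKA K) (hne K) (hall' K), ⟨RingEquiv.ofBijective Φ hΦ⟩⟩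

end Groth.InvTheory
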