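import Groth.Agent.InvTheory.EtaleInvariantsFrame
import Mathlib.RingTheory.Smooth.Fiber
import Mathlib.RingTheory.Smooth.Flat
import Mathlib.RingTheory.Adjoin.Tower
import Mathlib.RingTheory.Localization.Finiteness
import Mathlib.RingTheory.Localization.LocalizationLocalization

/-!
The fundamental lemma: invariants of an equivariant map which is étale and preserves inertia are étale.
-/

set_option autoImplicit false

universe u

open TensorProduct
open scoped Pointwise

namespace Groth.InvTheory.EtInv

section LocAction

variable (T : Type u) {B : Type u} [CommRing T] [CommRing B] [Algebra T B]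
  (G : Type u) [Group G] [MulSemiringAction G B] [SMulCommClass G T B] (M : Submonoid T)

local notation "Bm" => Localization (Algebra.algebraMapSubmonoid B M)

/-- the induced automorphism of a localisation at invariant elements -/
noncomputable def locHom (g : G) : Bm →+* Bm :=
  IsLocalization.map Bm (MulSemiringAction.toRingHom G B g)
    (show Algebra.algebraMapSubmonoid B M ≤ (Algebra.algebraMapSubmonoid B M).comap _ by
      rintro _ ⟨t, ht, rfl⟩
      exact ⟨t, ht, (smul_algebraMap g t).symm⟩)

lemma locHom_algebraMap (g : G) (β : B) : locHom T G M g (algebraMap B Bm β) = algebraMap B Bm (g • β) :=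
  IsLocalization.map_eq _ β

/-- the induced action on a localisation at invariant elements -/
@[implicit_reducible]
noncomputable def locAction : MulSemiringAction G Bm where
  smul g x := locHom T G M g x
  one_smul x := by
    change locHom T G M 1 x = x
    have : locHom (B := B) T G M 1 = RingHom.id _ :=
      IsLocalization.ringHom_ext (Algebra.algebraMapSubmonoid B M) (RingHom.ext fun β ↦ by
        simp [locHom_algebraMap])
    rw [this]; rfl
  mul_smul g h x := by
    change locHom T G M (g * h) x = locHom T G M g (locHom T G M h x)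
    have : locHom (B := B) T G M (g * h) = (locHom T G M g).comp (locHom T G M h) :=
      IsLocalization.ringHom_ext (Algebra.algebraMapSubmonoid B M) (RingHom.ext fun β ↦ by
        simp [locHom_algebraMap, mul_smul])
    rw [this]; rfl
  smul_zero g := map_zero (locHom T G M g)
  smul_add g := map_add (locHom T G M g)
  smul_one g := map_one (locHom T G M g)
  smul_mul g := map_mul (locHom T G M g)

lemma smulCommClass_loc :
    @SMulCommClass G (Localization M) Bm (locAction T G M).toSMul _ := by
  letI := locAction (B := B) T G M
  refine ⟨fun g c x ↦ ?_⟩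
  have : (locHom (B := B) T G M g).comp (algebraMap (Localization M) Bm) = algebraMap (Localization M) Bm :=
    IsLocalization.ringHom_ext M (RingHom.ext fun t ↦ by
      simp only [RingHom.comp_apply, ← IsScalarTower.algebraMap_apply T (Localization M) Bm]
      rw [IsScalarTower.algebraMap_apply T B Bm, locHom_algebraMap, smul_algebraMap])
  change locHom T G M g (c • x) = c • locHom T G M g x
  rw [Algebra.smul_def, Algebra.smul_def, map_mul]
  exact congrArg (· * _) (DFunLike.congr_fun this c)

lemma isInvariant_loc [Finite G] [Algebra.IsInvariant T B G] :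
    @Algebra.IsInvariant (Localization M) Bm G _ _ _ _ (locAction T G M) := by
  letI := locAction (B := B) T G M
  classical
  have := Fintype.ofFinite G
  refine ⟨fun x hx ↦ ?_⟩
  obtain ⟨β, ⟨_, s, hs, rfl⟩, rfl⟩ := IsLocalization.exists_mk'_eq (Algebra.algebraMapSubmonoid B M) x
  have key : ∀ g : G, ∃ m ∈ M, algebraMap T B m * (g • β - β) = 0 := by
    intro g
    set σ : Algebra.algebraMapSubmonoid B M := ⟨algebraMap T B s, s, hs, rfl⟩
    have h1 : locHom T G M g (IsLocalization.mk' Bm β σ * algebraMap B Bm (algebraMap T B s)) =
        IsLocalization.mk' Bm β σ * algebraMap B Bm (algebraMap T B s) := by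
      rw [map_mul, show locHom T G M g (IsLocalization.mk' Bm β σ) = _ from hx g, locHom_algebraMap,
        smul_algebraMap]
    rw [IsLocalization.mk'_spec, locHom_algebraMap] at h1
    obtain ⟨⟨_, m, hm, rfl⟩, hc⟩ := IsLocalization.exists_of_eq (M := Algebra.algebraMapSubmonoid B M) h1
    exact ⟨m, hm, by rw [mul_sub, sub_eq_zero]; exact hc⟩
  choose m hm hmz using key
  obtain ⟨t, ht⟩ := Algebra.IsInvariant.isInvariant (A := T) (G := G) (algebraMap T B (∏ g, m g) * β) fun g ↦ by
    rw [smul_mul', smul_algebraMap, ← sub_eq_zero, ← mul_sub,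
      ← Finset.mul_prod_erase Finset.univ m (Finset.mem_univ g), map_mul, mul_right_comm, hmz, zero_mul]
  refine ⟨IsLocalization.mk' (Localization M) t ⟨(∏ g, m g) * s, M.mul_mem (prod_mem fun g _ ↦ hm g) hs⟩, ?_⟩
  have φ : ∀ r, algebraMap B Bm (algebraMap T B r) = algebraMap (Localization M) Bm (algebraMap T _ r) := fun r ↦ by
    rw [← IsScalarTower.algebraMap_apply T B Bm, ← IsScalarTower.algebraMap_apply T (Localization M) Bm]
  rw [IsLocalization.eq_mk'_iff_mul_eq]
  refine ((IsLocalization.map_units Bm
    (⟨algebraMap T B (∏ g, m g), _, prod_mem fun g _ ↦ hm g, rfl⟩ : Algebra.algebraMapSubmonoid B M)).mul_right_inj).mp ?_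
  rw [← map_mul (algebraMap B Bm) _ β, ← ht, φ, φ, φ, mul_left_comm, ← map_mul, ← map_mul]
  congr 1
  rw [← map_mul]
  exact IsLocalization.mk'_spec (Localization M) t ⟨_, M.mul_mem (prod_mem fun g _ ↦ hm g) hs⟩

omit [SMulCommClass G T B] in
lemma algebraMap_loc_injective (hT : Function.Injective (algebraMap T B)) :
    Function.Injective (algebraMap (Localization M) Bm) := by
  refine (injective_iff_map_eq_zero _).mpr fun x hx ↦ ?_
  obtain ⟨t, ⟨s, hs⟩, rfl⟩ := IsLocalization.exists_mk'_eq M x
  have h1 : algebraMap B Bm (algebraMap T B t) = 0 := by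
    rw [← IsScalarTower.algebraMap_apply T B Bm, IsScalarTower.algebraMap_apply T (Localization M) Bm,
      ← IsLocalization.mk'_spec (Localization M) t ⟨s, hs⟩, map_mul, hx, zero_mul]
  obtain ⟨⟨_, m, hm, rfl⟩, hc⟩ := (IsLocalization.map_eq_zero_iff (Algebra.algebraMapSubmonoid B M) Bm _).mp h1
  rw [← map_mul] at hc
  exact IsLocalization.mk'_eq_zero_iff _ _ |>.mpr ⟨⟨m, hm⟩, hT (hc.trans (map_zero _).symm)⟩

lemma inertia_loc (P : Ideal Bm) :
    (letI := locAction (B := B) T G M; P.inertia G) = (P.comap (algebraMap B Bm)).inertia G := by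
  letI := locAction (B := B) T G M
  refine Subgroup.ext fun g ↦ ⟨fun hg β ↦ ?_, fun hg x ↦ ?_⟩
  · have := AddSubgroup.mem_inertia.mp hg (algebraMap B Bm β)
    rw [show g • algebraMap B Bm β = algebraMap B Bm (g • β) from locHom_algebraMap T G M g β, ← map_sub] at this
    exact this
  · obtain ⟨β, ⟨_, s, hs, rfl⟩, rfl⟩ := IsLocalization.exists_mk'_eq (Algebra.algebraMapSubmonoid B M) x
    set u : Bm := algebraMap B Bm (algebraMap T B s)
    have hu : IsUnit u := IsLocalization.map_units Bm (⟨_, s, hs, rfl⟩ : Algebra.algebraMapSubmonoid B M)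
    set x := IsLocalization.mk' Bm β (⟨_, s, hs, rfl⟩ : Algebra.algebraMapSubmonoid B M)
    have hxu : x * u = algebraMap B Bm β := IsLocalization.mk'_spec Bm β _
    have hgu : g • u = u := by
      rw [show g • u = algebraMap B Bm (g • algebraMap T B s) from locHom_algebraMap T G M g _, smul_algebraMap]
    change g • x - x ∈ P
    refine ((Ideal.mul_unit_mem_iff_mem P hu).mp ?_)
    have hgx : g • x * u = g • algebraMap B Bm β := by rw [← hxu, smul_mul', hgu]
    rw [sub_mul, hgx, hxu, show g • algebraMap B Bm β = algebraMap B Bm (g • β) from locHom_algebraMap T G M g β,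
      ← map_sub]
    exact AddSubgroup.mem_inertia.mp hg β

end LocAction

section Transport

variable {B A : Type u} [CommRing B] [CommRing A] [Algebra B A]
  {G : Type u} [Group G] [MulSemiringAction G B] [MulSemiringAction G A]
  (hG : ∀ (g : G) (β : B), algebraMap B A (g • β) = g • algebraMap B A β)

lemma formallyEtale_of_bijective {R R' : Type u} [CommRing R] [CommRing R'] (f : R →+* R') (hf : Function.Bijective f) :
    f.FormallyEtale := by
  algebraize [f]
  exact Algebra.FormallyEtale.of_equiv (AlgEquiv.ofBijective (Algebra.ofId R R') hf)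

include hG in
lemma isEtaleAt_smul (g : G) (x : Ideal A) [x.IsPrime] (hx : Algebra.IsEtaleAt B x) [(g • x).IsPrime] :
    Algebra.IsEtaleAt B (g • x) := by
  let e := MulSemiringAction.toRingEquiv G A g
  let τ := MulSemiringAction.toRingEquiv G B g
  have hmap : x.primeCompl.map e.toMonoidHom = (g • x).primeCompl := by
    ext α
    simp only [Submonoid.mem_map, Ideal.mem_primeCompl_iff, Ideal.mem_pointwise_smul_iff_inv_smul_mem]
    refine ⟨?_, fun h ↦ ⟨g⁻¹ • α, h, smul_inv_smul g α⟩⟩
    rintro ⟨α', hα', rfl⟩
    change g⁻¹ • g • α' ∉ x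
    rwa [inv_smul_smul]
  let E : Localization.AtPrime x ≃+* Localization.AtPrime (g • x) :=
    IsLocalization.ringEquivOfRingEquiv (M := x.primeCompl) (T := (g • x).primeCompl) _ _ e hmap
  have h1 : (algebraMap B (Localization.AtPrime x)).FormallyEtale := RingHom.formallyEtale_algebraMap.mpr hx
  have h2 := (formallyEtale_of_bijective τ.symm.toRingHom τ.symm.bijective).comp
    (h1.comp (formallyEtale_of_bijective E.toRingHom E.bijective))
  refine RingHom.formallyEtale_algebraMap.mp ?_
  convert h2
  ext β
  simp only [RingHom.coe_comp, RingHom.coe_coe, Function.comp_apply, RingEquiv.toRingHom_eq_coe]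
  rw [IsScalarTower.algebraMap_apply B A (Localization.AtPrime x)]
  simp only [E, IsLocalization.ringEquivOfRingEquiv_eq]
  rw [IsScalarTower.algebraMap_apply B A]
  congr 1
  change algebraMap B A β = g • algebraMap B A (g⁻¹ • β)
  rw [← hG, smul_inv_smul]

lemma mem_inertia_smul_iff {X : Type u} [CommRing X] [MulSemiringAction G X] (g h : G) (P : Ideal X) :
    h ∈ (g • P).inertia G ↔ g⁻¹ * h * g ∈ P.inertia G := by
  simp only [AddSubgroup.mem_inertia, Submodule.mem_toAddSubgroup, Ideal.mem_pointwise_smul_iff_inv_smul_mem, smul_sub,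
    mul_smul]
  exact ⟨fun H α ↦ by simpa using H (g • α), fun H α ↦ by simpa using H (g⁻¹ • α)⟩

include hG in
lemma comap_smul (g : G) (x : Ideal A) : (g • x).comap (algebraMap B A) = g • x.comap (algebraMap B A) := by
  ext β
  simp only [Ideal.mem_comap, Ideal.mem_pointwise_smul_iff_inv_smul_mem, hG]

end Transport

section FlatLocus

variable {B A : Type u} [CommRing B] [CommRing A] [Algebra B A] [Algebra.FinitePresentation B A]

lemma flat_of_isEtaleAt (x : Ideal A) [x.IsPrime] [Algebra.IsEtaleAt B x] :
    Module.Flat B (Localization.AtPrime x) := by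
  obtain ⟨f, hf, hfe⟩ := Algebra.exists_etale_of_isEtaleAt (R := B) x
  let φ : Localization.Away f →+* Localization.AtPrime x :=
    IsLocalization.Away.lift f (g := algebraMap A _) (IsLocalization.map_units _ (⟨f, hf⟩ : x.primeCompl))
  algebraize [φ]
  have : IsScalarTower A (Localization.Away f) (Localization.AtPrime x) :=
    .of_algebraMap_eq fun a ↦ (IsLocalization.Away.lift_eq f _ a).symm
  have : IsScalarTower B (Localization.Away f) (Localization.AtPrime x) := .to₁₃₄ B A _ _
  have : IsLocalization (Algebra.algebraMapSubmonoid (Localization.Away f) x.primeCompl) (Localization.AtPrime x) :=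
    .isLocalization_of_submonoid_le _ _ (Submonoid.powers f) x.primeCompl (Submonoid.powers_le.mpr hf)
  have : Module.Flat (Localization.Away f) (Localization.AtPrime x) :=
    IsLocalization.flat _ (Algebra.algebraMapSubmonoid (Localization.Away f) x.primeCompl)
  exact Module.Flat.trans B (Localization.Away f) _

end FlatLocus

variable {T S B A : Type u} [CommRing T] [CommRing S] [CommRing B] [CommRing A]
  [Algebra T S] [Algebra T B] [Algebra S A] [Algebra B A] [Algebra T A]
  [IsScalarTower T S A] [IsScalarTower T B A]
  [IsNoetherianRing T] [IsNoetherianRing S] [Module.Finite T B] [Module.Finite S A]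
  [Algebra.FiniteType T S] [Algebra.FiniteType B A]
  {G : Type u} [Group G] [Finite G] [MulSemiringAction G B] [MulSemiringAction G A]
  [SMulCommClass G T B] [SMulCommClass G S A] [Algebra.IsInvariant T B G] [Algebra.IsInvariant S A G]

theorem isEtaleAt_invariants (hG : ∀ (g : G) (β : B), algebraMap B A (g • β) = g • algebraMap B A β)
    (hT : Function.Injective (algebraMap T B)) (hS : Function.Injective (algebraMap S A))
    (x : Ideal A) [x.IsPrime] (hx : Algebra.IsEtaleAt B x)
    (hin : x.inertia G = (x.comap (algebraMap B A)).inertia G) :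
    Algebra.IsEtaleAt T (x.comap (algebraMap S A)) := by
  set a := x.comap (algebraMap S A)
  have ha : a.IsPrime := Ideal.IsPrime.comap _
  set b := a.comap (algebraMap T S)
  have hb : b.IsPrime := Ideal.IsPrime.comap _
  have : a.LiesOver b := ⟨rfl⟩
  have : IsNoetherianRing B := IsNoetherianRing.of_finite T B
  have : Algebra.FinitePresentation B A := Algebra.FinitePresentation.of_finiteType.mp inferInstance
  -- all conjugates of `x`
  have hconj : ∀ (x₀ : Ideal A) [x₀.IsPrime], x₀.comap (algebraMap S A) = a →
      Algebra.IsEtaleAt B x₀ ∧ x₀.inertia G = (x₀.comap (algebraMap B A)).inertia G := by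
    intro x₀ hx₀ hx₀a
    obtain ⟨g, rfl⟩ := Algebra.IsInvariant.exists_smul_of_under_eq S A G x x₀ hx₀a.symm
    refine ⟨isEtaleAt_smul hG g x hx, Subgroup.ext fun h ↦ ?_⟩
    rw [comap_smul hG, mem_inertia_smul_iff, mem_inertia_smul_iff, hin]
  let T' := Localization.AtPrime b
  let S' := Localization.AtPrime a
  let MB := Algebra.algebraMapSubmonoid B b.primeCompl
  let MA := Algebra.algebraMapSubmonoid A a.primeCompl
  let B' := Localization MB
  let A' := Localization MA
  let := Localization.AtPrime.algebraOfLiesOver b a
  have hMBA : MB ≤ MA.comap (algebraMap B A) := by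
    rintro _ ⟨t, ht, rfl⟩
    exact ⟨algebraMap T S t, ht, by rw [← IsScalarTower.algebraMap_apply, ← IsScalarTower.algebraMap_apply]⟩
  let fBA : B' →+* A' := IsLocalization.map A' (algebraMap B A) hMBA
  let : Algebra B' A' := fBA.toAlgebra
  let : Algebra T' A' := ((algebraMap S' A').comp (algebraMap T' S')).toAlgebra
  have : IsScalarTower T' S' A' := .of_algebraMap_eq fun _ ↦ rfl
  have hBA' : ∀ β : B, algebraMap B' A' (algebraMap B B' β) = algebraMap A A' (algebraMap B A β) := fun β ↦
    IsLocalization.map_eq _ β
  have : IsScalarTower B B' A' := .of_algebraMap_eq fun β ↦ by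
    rw [IsScalarTower.algebraMap_apply B A A', hBA']
  have hTT' : ∀ t : T, algebraMap T' S' (algebraMap T T' t) = algebraMap S S' (algebraMap T S t) := fun t ↦ by
    rw [← IsScalarTower.algebraMap_apply, ← IsScalarTower.algebraMap_apply]
  have : IsScalarTower T' B' A' := .of_algebraMap_eq' <| IsLocalization.ringHom_ext b.primeCompl <| RingHom.ext fun t ↦ by
    change algebraMap S' A' (algebraMap T' S' (algebraMap T T' t)) =
      algebraMap B' A' (algebraMap T' B' (algebraMap T T' t))
    rw [hTT', ← IsScalarTower.algebraMap_apply S S' A', IsScalarTower.algebraMap_apply S A A',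
      ← IsScalarTower.algebraMap_apply T T' B', IsScalarTower.algebraMap_apply T B B', ← IsScalarTower.algebraMap_apply T S A,
      IsScalarTower.algebraMap_apply T B A]
    exact (hBA' _).symm
  let : MulSemiringAction G B' := locAction T G b.primeCompl
  let : MulSemiringAction G A' := locAction S G a.primeCompl
  have : SMulCommClass G T' B' := smulCommClass_loc T G b.primeCompl
  have : SMulCommClass G S' A' := smulCommClass_loc S G a.primeCompl
  have : Algebra.IsInvariant T' B' G := isInvariant_loc T G b.primeCompl
  have : Algebra.IsInvariant S' A' G := isInvariant_loc S G a.primeCompl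
  have hG' : ∀ (g : G) (β : B'), algebraMap B' A' (g • β) = g • algebraMap B' A' β := by
    intro g
    have : (algebraMap B' A').comp (locHom T G b.primeCompl g) = (locHom S G a.primeCompl g).comp (algebraMap B' A') :=
      IsLocalization.ringHom_ext MB (RingHom.ext fun β ↦ by
        change algebraMap B' A' (locHom T G b.primeCompl g (algebraMap B B' β)) =
          locHom S G a.primeCompl g (algebraMap B' A' (algebraMap B B' β))
        refine (congrArg (algebraMap B' A') (locHom_algebraMap T G b.primeCompl g β)).trans ?_
        rw [hBA', hBA', hG]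
        exact (locHom_algebraMap S G a.primeCompl g _).symm)
    exact fun β ↦ DFunLike.congr_fun this β
  have : Module.Finite T' B' := Module.Finite.of_isLocalization T B b.primeCompl
  have : Module.Finite S' A' := Module.Finite.of_isLocalization S A a.primeCompl
  have : IsNoetherianRing T' := IsLocalization.isNoetherianRing b.primeCompl _ inferInstance
  have : IsNoetherianRing S' := IsLocalization.isNoetherianRing a.primeCompl _ inferInstance
  have hloc : IsLocalHom (algebraMap T' S') := by
    rw [Localization.AtPrime.IsLiesOverAlgebra.algebraMap_eq (p := b) (P := a)]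
    infer_instance
  -- maximal ideals of `A'`
  have hmax : ∀ (x' : Ideal A') [x'.IsMaximal], Algebra.IsEtaleAt B (x'.comap (algebraMap A A')) ∧
      (x'.comap (algebraMap A A')).inertia G = ((x'.comap (algebraMap A A')).comap (algebraMap B A)).inertia G := by
    intro x' hx'
    refine hconj _ ?_
    rw [Ideal.comap_comap, ← IsScalarTower.algebraMap_eq, IsScalarTower.algebraMap_eq S S' A', ← Ideal.comap_comap,
      comap_maximal (T := S') x']
    exact IsLocalization.AtPrime.comap_maximalIdeal S' a
  have hin' : ∀ x' : Ideal A', x'.IsMaximal → x'.inertia G = (x'.comap (algebraMap B' A')).inertia G := by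
    intro x' hx'
    rw [inertia_loc S G a.primeCompl x', inertia_loc T G b.primeCompl, (hmax x').2, Ideal.comap_comap,
      Ideal.comap_comap]
    congr 2
    exact RingHom.ext fun β ↦ (hBA' β).symm
  have hlocx : ∀ (x' : Ideal A') (_ : x'.IsPrime),
      Nonempty (Localization.AtPrime (x'.comap (algebraMap A A')) ≃ₐ[B] Localization.AtPrime x') := by
    intro x' hx'
    have : IsLocalization.AtPrime (Localization.AtPrime x') (x'.comap (algebraMap A A')) :=
      IsLocalization.isLocalization_isLocalization_atPrime_isLocalization MA (Localization.AtPrime x') x'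
    exact ⟨(IsLocalization.algEquiv (x'.comap (algebraMap A A')).primeCompl _ _).restrictScalars B⟩
  have : Algebra.EssFiniteType A A' := Algebra.EssFiniteType.of_isLocalization A' MA
  have : Algebra.EssFiniteType B A' := .comp B A A'
  have : Algebra.EssFiniteType B' A' := .of_comp B _ _
  have hflatB : Module.Flat B A' := by
    refine Module.flat_of_isLocalized_maximal A' A' (fun P ↦ Localization.AtPrime P)
      (fun P ↦ Algebra.linearMap A' (Localization.AtPrime P)) fun P hP ↦ ?_
    obtain ⟨e⟩ := hlocx P inferInstance
    have := (hmax P).1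
    have := flat_of_isEtaleAt (B := B) (P.comap (algebraMap A A'))
    exact Module.Flat.of_linearEquiv e.symm.toLinearEquiv
  have : Module.Flat B' A' := (Module.flat_iff_of_isLocalization B' MB A').mpr hflatB
  have hunrB : Algebra.FormallyUnramified B A' := by
    rw [Algebra.formallyUnramified_iff_forall]
    intro P
    obtain ⟨M, hM, hPM⟩ := Ideal.exists_le_maximal P.1 P.2.ne_top
    have hM' : ⟨M, hM.isPrime⟩ ∈ Algebra.unramifiedLocus B A' := by
      obtain ⟨e⟩ := hlocx M hM.isPrime
      have := (hmax M).1
      exact Algebra.FormallyUnramified.of_equiv e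
    change P ∈ Algebra.unramifiedLocus B A'
    rw [Algebra.unramifiedLocus_eq_compl_support] at hM' ⊢
    exact fun h ↦ hM' (Module.mem_support_mono (show P ≤ ⟨M, hM.isPrime⟩ from hPM) h)
  have : Algebra.FormallyUnramified B' A' := .of_restrictScalars B _ _
  have hT' := algebraMap_loc_injective T (B := B) b.primeCompl hT
  have hS' := algebraMap_loc_injective S (B := A) a.primeCompl hS
  obtain ⟨F⟩ := nonempty_frame (T := T') (S := S') hG' hin'
  have : Algebra.EssFiniteType S S' := Algebra.EssFiniteType.of_isLocalization S' a.primeCompl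
  have : Algebra.EssFiniteType T S' := .comp T S S'
  have : Algebra.EssFiniteType T' S' := .of_comp T _ _
  have : Nontrivial B' := hT'.nontrivial
  have hflat : Module.Flat T' S' := flat hG' hT' hS' F
  have hunr : Algebra.FormallyUnramified T' S' := formallyUnramified hG' hS' F
  -- smoothness
  let P := Localization (Algebra.algebraMapSubmonoid S b.primeCompl)
  let f : P →ₐ[S] S' := IsLocalization.liftAlgHom (M := Algebra.algebraMapSubmonoid S b.primeCompl)
    (f := Algebra.ofId _ _) (by
      rintro ⟨_, t, ht, rfl⟩
      exact IsLocalization.map_units (M := a.primeCompl) S' ⟨algebraMap _ _ t, ht⟩)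
  algebraize [f.toRingHom]
  have : IsScalarTower T P S' := .to₁₃₄ _ S _ _
  have : IsScalarTower T' P S' := .of_algebraMap_eq' <| by
    apply IsLocalization.ringHom_ext b.primeCompl
    simp only [RingHom.comp_assoc, ← IsScalarTower.algebraMap_eq]
  have : IsLocalization (Algebra.algebraMapSubmonoid P a.primeCompl) S' :=
    .isLocalization_of_submonoid_le _ _ (Algebra.algebraMapSubmonoid S b.primeCompl) _
      (by rintro _ ⟨t, ht, rfl⟩; exact ht)
  have : Algebra.FinitePresentation T S := Algebra.FinitePresentation.of_finiteType.mp inferInstance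
  have : Algebra.FinitePresentation T' P := by
    have : Algebra.IsPushout T T' S P := .symm <| Algebra.isPushout_of_isLocalization b.primeCompl _ _ _
    exact .equiv (Algebra.IsPushout.equiv T T' S P)
  have : Algebra.EssFiniteType (IsLocalRing.ResidueField T') (IsLocalRing.ResidueField T' ⊗[T'] S') := inferInstance
  have : Algebra.FormallyEtale (IsLocalRing.ResidueField T') (IsLocalRing.ResidueField T' ⊗[T'] S') :=
    Algebra.FormallyEtale.of_formallyUnramified_of_field _ _
  have : Algebra.FormallySmooth T' S' := Algebra.FormallySmooth.of_formallySmooth_residueField_tensor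
    (R := T') (S := S') (P := P) (Algebra.algebraMapSubmonoid P a.primeCompl)
  have : Algebra.FormallyEtale T' S' := Algebra.FormallyEtale.iff_formallyUnramified_and_formallySmooth.mpr ⟨hunr, this⟩
  have : Algebra.FormallyEtale T T' := .of_isLocalization b.primeCompl
  exact Algebra.FormallyEtale.comp T T' S'

end Groth.InvTheory.EtInv
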