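import Groth.Agent.InvTheory.EtaleInvariantsLocal
import Mathlib.RingTheory.Invariant.Galois
import Mathlib.RingTheory.Unramified.Field
import Mathlib.RingTheory.Etale.Field
import Mathlib.FieldTheory.Galois.Basic
import Mathlib.RingTheory.Jacobson.Ideal
import Mathlib.LinearAlgebra.Dimension.Finite

/-!
Existence of invariant elements giving a basis on the residue level, for an equivariant map preserving inertia groups.
-/

set_option autoImplicit false

universe u

open TensorProduct
open scoped Pointwise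

namespace Groth.InvTheory.EtInv

variable {T S : Type u} [CommRing T] [CommRing S] [Algebra T S]
  {B A : Type u} [CommRing B] [CommRing A] [Algebra T B] [Algebra S A]
  [Algebra B A] [Algebra T A] [IsScalarTower T S A] [IsScalarTower T B A]
  {G : Type u} [Group G] [Finite G] [MulSemiringAction G B] [MulSemiringAction G A]
  [SMulCommClass G T B] [SMulCommClass G S A] [Algebra.IsInvariant T B G] [Algebra.IsInvariant S A G]
  (hG : ∀ (g : G) (β : B), algebraMap B A (g • β) = g • algebraMap B A β)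

variable (T S B A) in
/-- `B ⊗ S → A` -/
noncomputable def mulHom : B ⊗[T] S →ₐ[T] A :=
  Algebra.TensorProduct.lift (IsScalarTower.toAlgHom T B A) (IsScalarTower.toAlgHom T S A) fun _ _ ↦ .all _ _

lemma mulHom_tmul (β : B) (s : S) :
    mulHom T S B A (β ⊗ₜ s) = algebraMap B A β * algebraMap S A s := by
  simp [mulHom]

omit [Algebra T B] [Algebra S A] [Algebra T A] [IsScalarTower T S A] [IsScalarTower T B A] [Algebra T S]
  [SMulCommClass G T B] [SMulCommClass G S A] [Algebra.IsInvariant T B G] [Algebra.IsInvariant S A G] [Finite G] in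
include hG in
lemma smul_mem_map (g : G) {I J : Ideal B} (hIJ : ∀ β ∈ I, g • β ∈ J) {α : A}
    (hα : α ∈ I.map (algebraMap B A)) : g • α ∈ J.map (algebraMap B A) := by
  induction hα using Submodule.span_induction with
  | mem w hw => obtain ⟨w, hw, rfl⟩ := hw; rw [← hG]; exact Ideal.mem_map_of_mem _ (hIJ w hw)
  | zero => simp
  | add w w' _ _ hw hw' => rw [smul_add]; exact add_mem hw hw'
  | smul r w _ hw => rw [smul_eq_mul, smul_mul']; exact Ideal.mul_mem_left _ _ hw

variable [IsLocalRing T] [IsLocalRing S] [IsLocalHom (algebraMap T S)] [Module.Finite T B] [Module.Finite S A]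
  [Algebra.EssFiniteType B A] [Algebra.FormallyUnramified B A]

omit [Algebra B A] [Algebra T A] [IsScalarTower T S A] [IsScalarTower T B A] [Algebra T S] [Algebra S A]
  [MulSemiringAction G B] [MulSemiringAction G A] [SMulCommClass G T B] [SMulCommClass G S A]
  [Algebra.IsInvariant T B G] [Algebra.IsInvariant S A G] [IsLocalRing S] [IsLocalHom (algebraMap T S)]
  [Module.Finite S A] [Algebra.EssFiniteType B A] [Algebra.FormallyUnramified B A] in
lemma comap_maximal (y : Ideal B) [y.IsMaximal] :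
    y.comap (algebraMap T B) = IsLocalRing.maximalIdeal T :=
  IsLocalRing.eq_maximalIdeal (Ideal.isMaximal_comap_of_isIntegral_of_isMaximal y)

omit [Algebra.EssFiniteType B A] [Algebra.FormallyUnramified B A] [MulSemiringAction G B] [MulSemiringAction G A] [SMulCommClass G T B] [SMulCommClass G S A]
  [Algebra.IsInvariant T B G] [Algebra.IsInvariant S A G] in
include T S in
lemma isMaximal_comap (x : Ideal A) [x.IsMaximal] : (x.comap (algebraMap B A)).IsMaximal := by
  refine Ideal.isMaximal_of_isIntegral_of_isMaximal_comap (R := T) _ ?_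
  rw [Ideal.comap_comap, ← IsScalarTower.algebraMap_eq, IsScalarTower.algebraMap_eq T S A, ← Ideal.comap_comap,
    comap_maximal (T := S) (B := A) x, IsLocalRing.maximalIdeal_comap]
  exact IsLocalRing.maximalIdeal.isMaximal T

variable (hin : ∀ x : Ideal A, x.IsMaximal → x.inertia G = (x.comap (algebraMap B A)).inertia G)

omit [Finite G] [IsLocalRing T] [IsLocalHom (algebraMap T S)] [Module.Finite T B]
  [SMulCommClass G T B] [Algebra.IsInvariant T B G] in
include hG hin in
/-- the residue field at `x` is generated by the residue field at `y` and the invariants -/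
lemma residue_surjective [Finite G] (x : Ideal A) [hx : x.IsMaximal] [hy : (x.comap (algebraMap B A)).IsMaximal] :
    Function.Surjective ((Ideal.Quotient.mk x).comp (mulHom T S B A).toRingHom) := by
  set y := x.comap (algebraMap B A)
  let aS := IsLocalRing.maximalIdeal S
  have hlo : x.LiesOver aS := ⟨(comap_maximal (T := S) (B := A) x).symm⟩
  let : Field (S ⧸ aS) := Ideal.Quotient.field aS
  let : Field (A ⧸ x) := Ideal.Quotient.field x
  let : Field (B ⧸ y) := Ideal.Quotient.field y
  have : Module.Finite (S ⧸ aS) (A ⧸ x) := Module.Finite.of_restrictScalars_finite S _ _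
  have : Normal (S ⧸ aS) (A ⧸ x) := Ideal.Quotient.normal G aS x
  let g₀ : B →+* A ⧸ x := (Ideal.Quotient.mk x).comp (algebraMap B A)
  let E : IntermediateField (S ⧸ aS) (A ⧸ x) := IntermediateField.adjoin _ (Set.range g₀)
  let jy : B ⧸ y →+* A ⧸ x := Ideal.quotientMap x (algebraMap B A) le_rfl
  let ry : B ⧸ y →+* E := jy.codRestrict E fun q ↦ by
    obtain ⟨β, rfl⟩ := Ideal.Quotient.mk_surjective q
    exact IntermediateField.subset_adjoin _ _ ⟨β, rfl⟩
  let : Algebra (B ⧸ y) E := ry.toAlgebra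
  let : Algebra (B ⧸ y) (A ⧸ x) := jy.toAlgebra
  have : IsScalarTower (B ⧸ y) E (A ⧸ x) := .of_algebraMap_eq fun _ ↦ rfl
  have : IsScalarTower B (B ⧸ y) (A ⧸ x) := .of_algebraMap_eq fun _ ↦ rfl
  have : Algebra.FormallyUnramified B (A ⧸ x) := .comp B A _
  have : Algebra.FormallyUnramified (B ⧸ y) (A ⧸ x) := .of_restrictScalars B _ _
  have : Algebra.EssFiniteType B (A ⧸ x) := .comp B A _
  have : Algebra.EssFiniteType (B ⧸ y) (A ⧸ x) := .of_comp B _ _
  have : Algebra.IsSeparable (B ⧸ y) (A ⧸ x) := Algebra.FormallyUnramified.isSeparable _ _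
  have : Algebra.IsSeparable E (A ⧸ x) := Algebra.isSeparable_tower_top_of_isSeparable (B ⧸ y) E _
  have : Normal E (A ⧸ x) := Normal.tower_top_of_normal (S ⧸ aS) E _
  have : IsGalois E (A ⧸ x) := ⟨⟩
  have : FiniteDimensional E (A ⧸ x) := Module.Finite.of_restrictScalars_finite (S ⧸ aS) _ _
  have htriv : ∀ σ : (A ⧸ x) ≃ₐ[E] (A ⧸ x), σ = 1 := by
    intro σ
    obtain ⟨h, hh⟩ := Ideal.Quotient.stabilizerHom_surjective G aS x (σ.restrictScalars (S ⧸ aS))
    have hσ : ∀ α : A, σ (Ideal.Quotient.mk x α) = Ideal.Quotient.mk x ((h : G) • α) := fun α ↦ by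
      have := DFunLike.congr_fun hh (Ideal.Quotient.mk x α)
      exact this.symm
    have hmem : (h : G) ∈ x.inertia G := by
      rw [hin x hx, AddSubgroup.mem_inertia]
      intro β
      change algebraMap B A ((h : G) • β - β) ∈ x
      rw [map_sub, hG, ← Ideal.Quotient.eq, ← hσ]
      exact σ.commutes ⟨g₀ β, IntermediateField.subset_adjoin _ _ ⟨β, rfl⟩⟩
    refine AlgEquiv.ext fun q ↦ ?_
    obtain ⟨α, rfl⟩ := Ideal.Quotient.mk_surjective q
    rw [hσ, AlgEquiv.one_apply, Ideal.Quotient.eq]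
    exact AddSubgroup.mem_inertia.mp hmem α
  have htop : E = ⊤ := by
    have : Subsingleton ((A ⧸ x) ≃ₐ[E] (A ⧸ x)) := ⟨fun a b ↦ (htriv a).trans (htriv b).symm⟩
    have hrank : Module.finrank E (A ⧸ x) = 1 := by
      rw [← IsGalois.card_aut_eq_finrank, Nat.card_eq_one_iff_unique]
      exact ⟨inferInstance, inferInstance⟩
    exact IntermediateField.finrank_eq_one_iff_eq_top.mp hrank
  let π := (Ideal.Quotient.mk x).comp (mulHom T S B A).toRingHom
  let R₀ : Subalgebra (S ⧸ aS) (A ⧸ x) :=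
    { π.range.toSubsemiring with
      algebraMap_mem' := fun r ↦ by
        obtain ⟨s, rfl⟩ := Ideal.Quotient.mk_surjective r
        exact ⟨1 ⊗ₜ s, by simp [π, mulHom_tmul]⟩ }
  intro q
  have hq : q ∈ E.toSubalgebra := by rw [htop]; trivial
  rw [IntermediateField.adjoin_toSubalgebra_of_isAlgebraic (fun _ _ ↦ Algebra.IsAlgebraic.isAlgebraic _)] at hq
  exact Algebra.adjoin_le (S := R₀) (by rintro _ ⟨β, rfl⟩; exact ⟨β ⊗ₜ 1, by simp [π, g₀, mulHom_tmul]⟩) hq

include hG hin in
/-- two distinct maximal ideals over `y` are separated -/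
lemma ker_ne (x x' : Ideal A) [hx : x.IsMaximal] [hx' : x'.IsMaximal]
    (hcomap : x'.comap (algebraMap B A) = x.comap (algebraMap B A)) (hne : x ≠ x') :
    RingHom.ker ((Ideal.Quotient.mk x).comp (mulHom T S B A).toRingHom) ≠
      RingHom.ker ((Ideal.Quotient.mk x').comp (mulHom T S B A).toRingHom) := by
  intro heq
  have hy : (x.comap (algebraMap B A)).IsMaximal := isMaximal_comap (T := T) (S := S) x
  have hy' : (x'.comap (algebraMap B A)).IsMaximal := isMaximal_comap (T := T) (S := S) x'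
  let π := (Ideal.Quotient.mk x).comp (mulHom T S B A).toRingHom
  let π' := (Ideal.Quotient.mk x').comp (mulHom T S B A).toRingHom
  let aS := IsLocalRing.maximalIdeal S
  have hlo : x.LiesOver aS := ⟨(comap_maximal (T := S) (B := A) x).symm⟩
  obtain ⟨g, hg⟩ := Algebra.IsInvariant.exists_smul_of_under_eq S A G x x'
    ((comap_maximal (T := S) (B := A) x).trans (comap_maximal (T := S) (B := A) x').symm)
  let σ : A ⧸ x ≃+* A ⧸ x' :=
    ((RingHom.quotientKerEquivOfSurjective (residue_surjective hG hin x)).symm.trans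
      (Ideal.quotEquivOfEq heq)).trans (RingHom.quotientKerEquivOfSurjective (residue_surjective hG hin x'))
  have hσ : ∀ p, σ (π p) = π' p := fun p ↦ by
    have : (RingHom.quotientKerEquivOfSurjective (residue_surjective hG hin x)).symm (π p) =
        Ideal.Quotient.mk _ p := by
      rw [RingEquiv.symm_apply_eq]; rfl
    simp only [σ, RingEquiv.trans_apply, this]
    rfl
  let u : A ⧸ x' ≃+* A ⧸ x := Ideal.quotientEquiv x' x (MulSemiringAction.toRingEquiv G A g⁻¹) (by
    rw [hg]
    exact (inv_smul_smul g x).symm)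
  have hu : ∀ α : A, u (Ideal.Quotient.mk x' α) = Ideal.Quotient.mk x (g⁻¹ • α) := fun α ↦ rfl
  let τ : (A ⧸ x) ≃ₐ[S ⧸ aS] (A ⧸ x) := AlgEquiv.ofRingEquiv (f := σ.trans u) fun r ↦ by
    obtain ⟨s, rfl⟩ := Ideal.Quotient.mk_surjective r
    have : algebraMap (S ⧸ aS) (A ⧸ x) (Ideal.Quotient.mk aS s) = π (1 ⊗ₜ s) := by simp [π, mulHom_tmul]
    rw [RingEquiv.trans_apply, this, hσ]
    change u (Ideal.Quotient.mk x' (mulHom T S B A (1 ⊗ₜ s))) = Ideal.Quotient.mk x (mulHom T S B A (1 ⊗ₜ s))
    rw [hu, mulHom_tmul, map_one, one_mul, smul_algebraMap]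
  obtain ⟨h, hh⟩ := Ideal.Quotient.stabilizerHom_surjective G aS x τ
  have hmem : g * (h : G) ∈ x.inertia G := by
    rw [hin x hx, ← hcomap, AddSubgroup.mem_inertia]
    intro β
    change algebraMap B A ((g * (h : G)) • β - β) ∈ x'
    rw [map_sub, hG, ← Ideal.Quotient.eq]
    have h1 : Ideal.Quotient.mk x ((h : G) • algebraMap B A β) = τ (π (β ⊗ₜ 1)) := by
      rw [← hh]
      simp only [π, RingHom.comp_apply, AlgHom.toRingHom_eq_coe, RingHom.coe_coe, mulHom_tmul, map_one, mul_one]
      rfl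
    have h2 : τ (π (β ⊗ₜ 1)) = Ideal.Quotient.mk x (g⁻¹ • algebraMap B A β) := by
      change u (σ (π (β ⊗ₜ 1))) = _
      rw [hσ]
      simp only [π', RingHom.comp_apply, AlgHom.toRingHom_eq_coe, RingHom.coe_coe, mulHom_tmul, map_one, mul_one, hu]
    have h3 := congrArg u.symm (h1.trans h2)
    rw [show Ideal.Quotient.mk x ((h : G) • algebraMap B A β) = u (Ideal.Quotient.mk x' ((g * (h : G)) • algebraMap B A β)) by
      rw [hu, mul_smul, inv_smul_smul], show Ideal.Quotient.mk x (g⁻¹ • algebraMap B A β) =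
        u (Ideal.Quotient.mk x' (algebraMap B A β)) from (hu _).symm, RingEquiv.symm_apply_apply,
      RingEquiv.symm_apply_apply] at h3
    exact h3
  have hfix : (g * (h : G)) • x = x := by
    refine le_antisymm ?_ fun α hα ↦ ?_
    · rw [Ideal.pointwise_smul_def, Ideal.map_le_iff_le_comap]
      intro α hα
      change (g * (h : G)) • α ∈ x
      have := add_mem (AddSubgroup.mem_inertia.mp hmem α) (show α ∈ x from hα)
      simpa using this
    · rw [Ideal.mem_pointwise_smul_iff_inv_smul_mem]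
      have := add_mem (AddSubgroup.mem_inertia.mp (inv_mem hmem) α) hα
      simpa using this
  rw [mul_smul, MulAction.mem_stabilizer_iff.mp h.2, ← hg] at hfix
  exact hne hfix.symm

include hG hin in
/-- invariants span the fibre over `y` -/
lemma exists_sub_mem_map (y : Ideal B) [hy : y.IsMaximal] (α : A) :
    ∃ p : B ⊗[T] S, α - mulHom T S B A p ∈ y.map (algebraMap B A) := by
  classical
  let X := {x : Ideal A // x.IsMaximal ∧ x.comap (algebraMap B A) = y}
  have : Finite X := by
    rcases isEmpty_or_nonempty X with hX | ⟨⟨x₀, hx₀, hc₀⟩⟩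
    · infer_instance
    refine Set.Finite.to_subtype (s := {x : Ideal A | x.IsMaximal ∧ x.comap (algebraMap B A) = y})
      ((Set.finite_range fun g : G ↦ g • x₀).subset ?_)
    rintro x ⟨hx, -⟩
    obtain ⟨g, hg⟩ := Algebra.IsInvariant.exists_smul_of_under_eq S A G x₀ x
      ((comap_maximal (T := S) (B := A) x₀).trans (comap_maximal (T := S) (B := A) x).symm)
    exact ⟨g, hg.symm⟩
  let π : (x : X) → (B ⊗[T] S →+* A ⧸ x.1) := fun x ↦ (Ideal.Quotient.mk x.1).comp (mulHom T S B A).toRingHom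
  have hsurj : ∀ x : X, Function.Surjective (π x) := fun x ↦ by
    have := x.2.1
    have := isMaximal_comap (T := T) (S := S) (B := B) x.1
    exact residue_surjective hG hin x.1
  have hcop : Pairwise (Function.onFun IsCoprime fun x : X ↦ RingHom.ker (π x)) := fun x x' hne ↦ by
    have := x.2.1
    have := x'.2.1
    let := Ideal.Quotient.field x.1
    let := Ideal.Quotient.field x'.1
    have h1 := RingHom.ker_isMaximal_of_surjective (π x) (hsurj x)
    have h2 := RingHom.ker_isMaximal_of_surjective (π x') (hsurj x')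
    exact Ideal.isCoprime_iff_sup_eq.mpr
      (h1.coprime_of_ne h2 (ker_ne hG hin x.1 x'.1 (x'.2.2.trans x.2.2.symm) fun h ↦ hne (Subtype.ext h)))
  choose p hp using fun x : X ↦ hsurj x (Ideal.Quotient.mk x.1 α)
  obtain ⟨r, hr⟩ := Ideal.exists_forall_sub_mem_ideal hcop p
  refine ⟨r, ?_⟩
  set w := α - mulHom T S B A r
  have hw : ∀ x : X, w ∈ x.1 := fun x ↦ by
    rw [← Ideal.Quotient.eq_zero_iff_mem, map_sub, sub_eq_zero, ← hp x]
    exact (sub_eq_zero.mp ((map_sub (π x) r (p x)).symm.trans (RingHom.mem_ker.mp (hr x)))).symm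
  let W := A ⧸ y.map (algebraMap B A)
  let := Ideal.Quotient.field y
  let : Algebra (B ⧸ y) W := (Ideal.quotientMap _ (algebraMap B A) Ideal.le_comap_map).toAlgebra
  have : IsScalarTower B (B ⧸ y) W := .of_algebraMap_eq fun _ ↦ rfl
  have : Algebra.FormallyUnramified B W := .comp B A W
  have : Algebra.FormallyUnramified (B ⧸ y) W := .of_restrictScalars B _ _
  have : Algebra.EssFiniteType B W := .comp B A W
  have : Algebra.EssFiniteType (B ⧸ y) W := .of_comp B _ _
  have : Module.Finite (B ⧸ y) W := Algebra.FormallyUnramified.finite_of_free _ _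
  have : IsReduced W := Algebra.FormallyUnramified.isReduced_of_field (B ⧸ y) W
  have : IsArtinianRing W := isArtinian_of_tower (B ⧸ y) inferInstance
  have hjac : Ideal.Quotient.mk (y.map (algebraMap B A)) w ∈ Ideal.jacobson (⊥ : Ideal W) := by
    refine Submodule.mem_sInf.mpr fun M ⟨_, hM⟩ ↦ ?_
    refine (hw ⟨Ideal.comap (Ideal.Quotient.mk _) M, Ideal.comap_isMaximal_of_surjective _ Ideal.Quotient.mk_surjective, ?_⟩)
    refine (hy.eq_of_le ?_ ?_).symm
    · exact (Ideal.IsPrime.comap _ (hK := Ideal.IsPrime.comap _ (hK := hM.isPrime))).ne_top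
    · rw [← Ideal.map_le_iff_le_comap]
      intro a ha
      rw [Ideal.mem_comap, Ideal.Quotient.eq_zero_iff_mem.mpr ha]
      exact M.zero_mem
  rw [IsArtinianRing.jacobson_eq_radical, ← Ideal.zero_eq_bot, ← nilradical, nilradical_eq_zero] at hjac
  exact Ideal.Quotient.eq_zero_iff_mem.mp hjac

include T hG hin in
/-- invariants give a basis of the fibre over `y` -/
lemma exists_basis_at (y : Ideal B) [hy : y.IsMaximal] :
    ∃ (ι : Type u) (_ : Fintype ι) (a : ι → S),
      (∀ α : A, ∃ β : ι → B, α - ∑ j, algebraMap B A (β j) * algebraMap S A (a j) ∈ y.map (algebraMap B A)) ∧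
      (∀ β : ι → B, ∑ j, algebraMap B A (β j) * algebraMap S A (a j) ∈ y.map (algebraMap B A) → ∀ j, β j ∈ y) := by
  classical
  let W := A ⧸ y.map (algebraMap B A)
  let := Ideal.Quotient.field y
  let : Algebra (B ⧸ y) W := (Ideal.quotientMap _ (algebraMap B A) Ideal.le_comap_map).toAlgebra
  have : IsScalarTower B (B ⧸ y) W := .of_algebraMap_eq fun _ ↦ rfl
  have : Algebra.FormallyUnramified B W := .comp B A W
  have : Algebra.FormallyUnramified (B ⧸ y) W := .of_restrictScalars B _ _
  have : Algebra.EssFiniteType B W := .comp B A W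
  have : Algebra.EssFiniteType (B ⧸ y) W := .of_comp B _ _
  have : Module.Finite (B ⧸ y) W := Algebra.FormallyUnramified.finite_of_free _ _
  let v : S → W := fun s ↦ Ideal.Quotient.mk _ (algebraMap S A s)
  have hsm : ∀ (β : B) (s : S), Ideal.Quotient.mk y β • v s = Ideal.Quotient.mk _ (algebraMap B A β * algebraMap S A s) :=
    fun β s ↦ by rw [Algebra.smul_def, map_mul]; rfl
  have htop : Submodule.span (B ⧸ y) (Set.range v) = ⊤ := by
    refine eq_top_iff.mpr fun w _ ↦ ?_
    obtain ⟨α, rfl⟩ := Ideal.Quotient.mk_surjective w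
    obtain ⟨p, hp⟩ := exists_sub_mem_map (T := T) (S := S) hG hin y α
    rw [Ideal.Quotient.eq.mpr hp]
    clear hp
    induction p with
    | zero => simp
    | add p q hp hq => rw [map_add, map_add]; exact add_mem hp hq
    | tmul β s => rw [mulHom_tmul, ← hsm]; exact Submodule.smul_mem _ _ (Submodule.subset_span ⟨s, rfl⟩)
  obtain ⟨b, hb, hspan, hli⟩ := exists_linearIndependent (B ⧸ y) (Set.range v)
  rw [htop] at hspan
  have : Finite b := hli.finite
  have := Fintype.ofFinite b
  choose a ha using fun w : b ↦ hb w.2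
  refine ⟨b, inferInstance, a, fun α ↦ ?_, fun β hβ j ↦ ?_⟩
  · have hα : Ideal.Quotient.mk (y.map (algebraMap B A)) α ∈ Submodule.span (B ⧸ y) (Set.range fun w : b ↦ (w : W)) := by
      rw [Subtype.range_coe, hspan]; trivial
    obtain ⟨c, hc⟩ := (Submodule.mem_span_range_iff_exists_fun _).mp hα
    choose β hβ using fun w : b ↦ Ideal.Quotient.mk_surjective (c w)
    refine ⟨β, Ideal.Quotient.eq.mp ?_⟩
    rw [map_sum, ← hc]
    exact Finset.sum_congr rfl fun w _ ↦ by rw [← hsm, hβ, ha]
  · rw [← Ideal.Quotient.eq_zero_iff_mem] at hβ ⊢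
    rw [map_sum] at hβ
    refine Fintype.linearIndependent_iff.mp hli (fun w ↦ Ideal.Quotient.mk y (β w)) ?_ j
    rw [← hβ]
    exact Finset.sum_congr rfl fun w _ ↦ by rw [← hsm, ha]

include hG hin in
theorem nonempty_frame : Nonempty (Frame T S B A) := by
  classical
  have hbB : ∀ y : Ideal B, y.IsMaximal → (IsLocalRing.maximalIdeal T).map (algebraMap T B) ≤ y := fun y hy ↦
    Ideal.map_le_iff_le_comap.mpr (comap_maximal y).ge
  rcases subsingleton_or_nontrivial B with hB | hB
  · have : Subsingleton A := subsingleton_of_zero_eq_one (by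
      rw [← map_one (algebraMap B A), Subsingleton.elim (1 : B) 0, map_zero])
    exact ⟨{ ι := PEmpty, a := PEmpty.elim, 𝔅 := ⊤
             le_jacobson := fun x _ ↦ Subsingleton.elim x 0 ▸ Submodule.zero_mem _
             le_radical := fun x _ ↦ Subsingleton.elim x 0 ▸ Submodule.zero_mem _
             map_le := le_top
             span_eq := fun α ↦ ⟨PEmpty.elim, by rw [Subsingleton.elim (α - _) (0 : A)]; exact Submodule.zero_mem _⟩
             indep := fun _ _ j ↦ j.elim }⟩
  obtain ⟨y₀, hy₀⟩ := Ideal.exists_maximal B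
  obtain ⟨ι, _, a, hspan, hindep⟩ := exists_basis_at (T := T) (S := S) hG hin y₀
  let Y := {y : Ideal B // y.IsMaximal}
  have hY : ∀ y : Y, ∃ g : G, g • y₀ = y.1 := fun y ↦ by
    have := y.2
    obtain ⟨g, hg⟩ := Algebra.IsInvariant.exists_smul_of_under_eq T B G y₀ y.1
      ((comap_maximal y₀).trans (comap_maximal y.1).symm)
    exact ⟨g, hg.symm⟩
  have : Finite Y := Set.Finite.to_subtype (s := {y : Ideal B | y.IsMaximal})
    ((Set.finite_range fun g : G ↦ g • y₀).subset fun y hy ↦ hY ⟨y, hy⟩)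
  have := Fintype.ofFinite Y
  have hcop : Pairwise (Function.onFun IsCoprime fun y : Y ↦ y.1) := fun y y' hne ↦
    Ideal.isCoprime_iff_sup_eq.mpr (y.2.coprime_of_ne y'.2 fun h ↦ hne (Subtype.ext h))
  have hjac : Ideal.jacobson (⊥ : Ideal B) = ⨅ y : Y, y.1 :=
    le_antisymm (le_iInf fun y ↦ sInf_le ⟨bot_le, y.2⟩) (le_sInf fun J hJ ↦ iInf_le_of_le ⟨J, hJ.2⟩ le_rfl)
  have hmap : (Ideal.jacobson (⊥ : Ideal B)).map (algebraMap B A) = ⨅ y : Y, y.1.map (algebraMap B A) := by
    have hc : Pairwise (Function.onFun IsCoprime fun y : Y ↦ y.1.map (algebraMap B A)) := fun y y' hne ↦ by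
      rw [Function.onFun, Ideal.isCoprime_iff_sup_eq, ← Ideal.map_sup, Ideal.isCoprime_iff_sup_eq.mp (hcop hne),
        Ideal.map_top]
    have h1 : ⨅ y : Y, y.1 = ∏ y : Y, y.1 := by
      rw [Ideal.prod_eq_iInf_of_pairwise_isCoprime fun y _ y' _ h ↦ hcop h]
      simp
    have h2 : ⨅ y : Y, y.1.map (algebraMap B A) = ∏ y : Y, y.1.map (algebraMap B A) := by
      rw [Ideal.prod_eq_iInf_of_pairwise_isCoprime fun y _ y' _ h ↦ hc h]
      simp
    rw [hjac, h1, h2, ← Ideal.mapHom_apply, map_prod]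
    rfl
  have key : ∀ y : Y, (∀ α : A, ∃ β : ι → B,
        α - ∑ j, algebraMap B A (β j) * algebraMap S A (a j) ∈ y.1.map (algebraMap B A)) ∧
      (∀ β : ι → B, ∑ j, algebraMap B A (β j) * algebraMap S A (a j) ∈ y.1.map (algebraMap B A) →
        ∀ j, β j ∈ y.1) := by
    intro y
    obtain ⟨g, hg⟩ := hY y
    rw [← hg]
    have hsum : ∀ (h : G) (β : ι → B), h • ∑ j, algebraMap B A (β j) * algebraMap S A (a j) =
        ∑ j, algebraMap B A (h • β j) * algebraMap S A (a j) := fun h β ↦ by
      simp only [Finset.smul_sum, smul_mul', smul_algebraMap, hG]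
    refine ⟨fun α ↦ ?_, fun β hβ j ↦ ?_⟩
    · obtain ⟨β, hβ⟩ := hspan (g⁻¹ • α)
      refine ⟨fun j ↦ g • β j, ?_⟩
      rw [← hsum, ← smul_inv_smul g α, ← smul_sub]
      exact smul_mem_map hG g (fun β hβ ↦ Ideal.smul_mem_pointwise_smul g β y₀ hβ) hβ
    · rw [Ideal.mem_pointwise_smul_iff_inv_smul_mem]
      refine hindep (fun j ↦ g⁻¹ • β j) ?_ j
      rw [← hsum]
      exact smul_mem_map hG g⁻¹ (fun β hβ ↦ by rwa [← Ideal.mem_pointwise_smul_iff_inv_smul_mem]) hβ
  refine ⟨{ ι := ι, a := a, 𝔅 := Ideal.jacobson ⊥, le_jacobson := le_rfl,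
            le_radical := ?_, map_le := ?_, span_eq := ?_, indep := ?_ }⟩
  · rw [Ideal.radical_eq_sInf]
    refine le_sInf fun P ⟨hP, hP'⟩ ↦ ?_
    have : P.IsMaximal := by
      refine Ideal.isMaximal_of_isIntegral_of_isMaximal_comap (R := T) P ?_
      rw [← (IsLocalRing.maximalIdeal.isMaximal T).eq_of_le (Ideal.IsPrime.comap _ (hK := hP')).ne_top
        (Ideal.map_le_iff_le_comap.mp (by simpa [IsLocalRing.jacobson_eq_maximalIdeal] using hP))]
      exact IsLocalRing.maximalIdeal.isMaximal T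
    exact sInf_le ⟨bot_le, this⟩
  · rw [IsLocalRing.jacobson_eq_maximalIdeal _ bot_ne_top]
    exact le_sInf fun y hy ↦ hbB y hy.2
  · intro α
    choose c hc using fun y : Y ↦ (key y).1 α
    choose β hβ using fun j : ι ↦ Ideal.exists_forall_sub_mem_ideal hcop fun y ↦ c y j
    refine ⟨β, ?_⟩
    rw [hmap, Submodule.mem_iInf]
    intro y
    have h := sub_mem (hc y) (sum_mem fun j (_ : j ∈ Finset.univ) ↦
      Ideal.mul_mem_right (algebraMap S A (a j)) _ (Ideal.mem_map_of_mem (algebraMap B A) (hβ j y)))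
    simpa [map_sub, sub_mul, Finset.sum_sub_distrib] using h
  · intro β hβ j
    rw [hmap, Submodule.mem_iInf] at hβ
    rw [hjac, Submodule.mem_iInf]
    exact fun y ↦ (key y).2 β (hβ y) j

end Groth.InvTheory.EtInv
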