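import Mathlib.RingTheory.Filtration
import Mathlib.RingTheory.Invariant.Basic
import Mathlib.RingTheory.Flat.EquationalCriterion
import Mathlib.RingTheory.Unramified.LocalRing
import Mathlib.RingTheory.Etale.Descent
import Mathlib.RingTheory.TensorProduct.Quotient

/-!
# The fundamental lemma on étale morphisms and invariants, local part

`T → S` is a local map of Noetherian local rings, `T = B^G`, `S = A^G` with `B`, `A` finite and `B → A`
equivariant, flat and formally unramified. If some invariant elements give a basis of `A/𝔅A` over `B/𝔅`,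
then `S` is flat and formally unramified over `T`.
-/

set_option autoImplicit false

universe u

open TensorProduct

namespace Groth.InvTheory.EtInv

section ArtinRees

variable {T : Type u} [CommRing T] [IsNoetherianRing T] {M : Type u} [AddCommGroup M] [Module T M]
  [Module.Finite T M]

lemma exists_pow_inf_le (b : Ideal T) (N : Submodule T M) :
    ∃ c, ∀ n, b ^ (n + c) • (⊤ : Submodule T M) ⊓ N ≤ b ^ n • N := by
  obtain ⟨k, hk⟩ := b.exists_pow_inf_eq_pow_smul N
  refine ⟨k, fun n ↦ ?_⟩
  rw [hk (n + k) (Nat.le_add_left k n), Nat.add_sub_cancel]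
  exact Submodule.smul_mono le_rfl inf_le_right

end ArtinRees

variable {T S : Type u} [CommRing T] [CommRing S] [Algebra T S]
variable {B A : Type u} [CommRing B] [CommRing A] [Algebra T B] [Algebra S A]

section Contraction

variable [IsNoetherianRing T] [Module.Finite T B]

lemma exists_comap_pow_le (hinj : Function.Injective (algebraMap T B)) (b : Ideal T) :
    ∃ c, ∀ n t, algebraMap T B t ∈ b.map (algebraMap T B) ^ (n + c) → t ∈ b ^ n := by
  obtain ⟨c, hc⟩ := exists_pow_inf_le b (LinearMap.range (Algebra.linearMap T B))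
  refine ⟨c, fun n t ht ↦ ?_⟩
  have h1 : algebraMap T B t ∈ b ^ (n + c) • (⊤ : Submodule T B) := by
    rw [Ideal.smul_top_eq_map, Submodule.restrictScalars_mem, Ideal.map_pow]
    exact ht
  have h2 := hc n ⟨h1, t, rfl⟩
  rw [LinearMap.range_eq_map, ← Submodule.map_smul''] at h2
  obtain ⟨t', ht', htt⟩ := h2
  obtain rfl := hinj htt
  simpa using ht'

variable (G : Type u) [Group G] [Finite G] [MulSemiringAction G B] [SMulCommClass G T B]
  [Algebra.IsInvariant T B G]

lemma exists_invariant_approx (b : Ideal T) :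
    ∃ c, ∀ n (β : B), (∀ g : G, g • β - β ∈ b.map (algebraMap T B) ^ (n + c)) →
      ∃ t : T, β - algebraMap T B t ∈ b.map (algebraMap T B) ^ n := by
  classical
  have := Fintype.ofFinite G
  let δ : B →ₗ[T] G → B := LinearMap.pi fun g ↦ DistribSMul.toLinearMap T B g - LinearMap.id
  obtain ⟨c, hc⟩ := exists_pow_inf_le b (LinearMap.range δ)
  refine ⟨c, fun n β hβ ↦ ?_⟩
  have h1 : δ β ∈ b ^ (n + c) • (⊤ : Submodule T (G → B)) := by
    rw [← Finset.univ_sum_single (δ β)]
    refine sum_mem fun g _ ↦ ?_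
    have hg : δ β g ∈ b ^ (n + c) • (⊤ : Submodule T B) := by
      rw [Ideal.smul_top_eq_map, Submodule.restrictScalars_mem, Ideal.map_pow]
      simpa [δ] using hβ g
    have := Submodule.mem_map_of_mem (f := LinearMap.single T (fun _ : G ↦ B) g) hg
    rw [Submodule.map_smul''] at this
    exact Submodule.smul_mono le_rfl le_top this
  have h2 := hc n ⟨h1, β, rfl⟩
  rw [LinearMap.range_eq_map, ← Submodule.map_smul''] at h2
  obtain ⟨β', hβ', he⟩ := h2
  obtain ⟨t, ht⟩ := Algebra.IsInvariant.isInvariant (A := T) (G := G) (β - β') fun g ↦ by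
    have := congrFun he g
    simp only [δ, LinearMap.pi_apply, LinearMap.sub_apply, DistribSMul.toLinearMap_apply,
      LinearMap.id_coe, id_eq] at this
    rw [smul_sub]
    linear_combination (exp := 1) -this
  refine ⟨t, ?_⟩
  rw [SetLike.mem_coe, Ideal.smul_top_eq_map, Submodule.restrictScalars_mem, Ideal.map_pow] at hβ'
  rwa [ht, sub_sub_cancel]

end Contraction

variable [Algebra B A]

/-- A family whose residues are a basis modulo `𝔅` gives independence modulo every ideal, if flat. -/
lemma mem_of_sum_mem [Module.Flat B A] {ι : Type u} [Fintype ι] (v : ι → A) (𝔅 : Ideal B)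
    (h𝔅 : 𝔅 ≤ Ideal.jacobson ⊥)
    (hspan : ∀ α : A, ∃ β : ι → B, α - ∑ j, algebraMap B A (β j) * v j ∈ 𝔅.map (algebraMap B A))
    (hindep : ∀ β : ι → B, ∑ j, algebraMap B A (β j) * v j ∈ 𝔅.map (algebraMap B A) → ∀ j, β j ∈ 𝔅)
    (J : Ideal B) (β : ι → B) (hβ : ∑ j, algebraMap B A (β j) * v j ∈ J.map (algebraMap B A)) :
    ∀ j, β j ∈ J := by
  classical
  obtain ⟨l, hl, hle⟩ := (Finsupp.mem_span_image_iff_linearCombination A).mp hβ
  rw [Finsupp.linearCombination_apply, Finsupp.sum] at hle
  let f : ι ⊕ l.support → B := Sum.elim β fun m ↦ -(m : B)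
  let x : ι ⊕ l.support → A := Sum.elim v fun m ↦ l m
  have hrel : ∑ i, f i • x i = 0 := by
    simp only [f, x, Fintype.sum_sum_type, Sum.elim_inl, Sum.elim_inr, Algebra.smul_def, map_neg, neg_mul,
      Finset.sum_neg_distrib]
    rw [← hle, Finset.sum_coe_sort l.support fun m ↦ algebraMap B A m * l m, ← sub_eq_add_neg, ← Finset.sum_sub_distrib]
    exact Finset.sum_eq_zero fun m _ ↦ by rw [smul_eq_mul, mul_comm, sub_self]
  obtain ⟨K, a, y, hay, hfa⟩ := Module.Flat.isTrivialRelation_of_sum_smul_eq_zero hrel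
  choose c hc using fun r ↦ hspan (y r)
  let M : Matrix ι ι B := fun j j' ↦ ∑ r, a (.inl j) r * c r j'
  have hM : ∀ j j', M j j' - (1 : Matrix ι ι B) j j' ∈ 𝔅 := by
    intro j
    refine hindep (fun j' ↦ M j j' - (1 : Matrix ι ι B) j j') ?_
    have : ∑ j', algebraMap B A (M j j' - (1 : Matrix ι ι B) j j') * v j' =
        -∑ r, algebraMap B A (a (.inl j) r) * (y r - ∑ j', algebraMap B A (c r j') * v j') := by
      simp only [map_sub, sub_mul, mul_sub, Finset.sum_sub_distrib, neg_sub, M, map_sum, map_mul, Finset.sum_mul,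
        Finset.mul_sum, mul_assoc]
      rw [Finset.sum_comm]
      congr 1
      have h := hay (.inl j)
      simp only [x, Sum.elim_inl, Algebra.smul_def] at h
      rw [← h]
      simp [Matrix.one_apply]
    rw [this]
    exact neg_mem (sum_mem fun r _ ↦ Ideal.mul_mem_left _ _ (hc r))
  have hdet : IsUnit M.det := by
    refine Ideal.isUnit_of_sub_one_mem_jacobson_bot _ (h𝔅 ?_)
    rw [← Ideal.Quotient.eq, RingHom.map_det, map_one,
      show (Ideal.Quotient.mk 𝔅).mapMatrix M = 1 from ?_, Matrix.det_one]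
    ext j j'
    rw [RingHom.mapMatrix_apply, Matrix.map_apply, Ideal.Quotient.eq.mpr (hM j j')]
    rcases eq_or_ne j j' with rfl | hne <;> simp [*]
  have hJ : ∀ j', Matrix.vecMul β M j' ∈ J := by
    intro j'
    simp only [Matrix.vecMul, dotProduct, M, Finset.mul_sum]
    rw [Finset.sum_comm]
    refine sum_mem fun r _ ↦ ?_
    simp only [← mul_assoc, ← Finset.sum_mul]
    refine J.mul_mem_right _ ?_
    have h := hfa r
    simp only [f, Fintype.sum_sum_type, Sum.elim_inl, Sum.elim_inr] at h
    rw [eq_neg_of_add_eq_zero_left h]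
    exact neg_mem (sum_mem fun m _ ↦ J.mul_mem_right _ (neg_mem (hl m.2)))
  intro j
  have h1 : Matrix.vecMul (Matrix.vecMul β M) M⁻¹ = β := by
    rw [Matrix.vecMul_vecMul, Matrix.mul_nonsing_inv M hdet, Matrix.vecMul_one]
  rw [← congrFun h1 j]
  simp only [Matrix.vecMul, dotProduct]
  exact sum_mem fun j' _ ↦ J.mul_mem_right _ (hJ j')

lemma exists_sub_sum_mem_pow {ι : Type u} [Fintype ι] (v : ι → A) (𝔅 : Ideal B)
    (hspan : ∀ α : A, ∃ β : ι → B, α - ∑ j, algebraMap B A (β j) * v j ∈ 𝔅.map (algebraMap B A)) (k : ℕ) :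
    ∀ α : A, ∃ β : ι → B, α - ∑ j, algebraMap B A (β j) * v j ∈ (𝔅 ^ k).map (algebraMap B A) := by
  induction k with
  | zero => exact fun α ↦ ⟨0, by simp [Ideal.one_eq_top, Ideal.map_top]⟩
  | succ k ih =>
    intro α
    obtain ⟨β, hβ⟩ := ih α
    suffices h : ∀ r ∈ (𝔅 ^ k).map (algebraMap B A), ∃ γ : ι → B,
        r - ∑ j, algebraMap B A (γ j) * v j ∈ (𝔅 ^ (k + 1)).map (algebraMap B A) by
      obtain ⟨γ, hγ⟩ := h _ hβ
      refine ⟨β + γ, ?_⟩
      simpa [add_mul, Finset.sum_add_distrib, sub_add_eq_sub_sub] using hγ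
    intro r hr
    obtain ⟨l, hl, rfl⟩ := (Finsupp.mem_span_image_iff_linearCombination A).mp hr
    choose c hc using fun m : l.support ↦ hspan (l m)
    refine ⟨fun j ↦ ∑ m : l.support, (m : B) * c m j, ?_⟩
    rw [Finsupp.linearCombination_apply, Finsupp.sum, ← Finset.sum_coe_sort l.support fun m ↦ l m • algebraMap B A m]
    simp only [map_sum, map_mul, Finset.sum_mul]
    rw [Finset.sum_comm (s := (Finset.univ : Finset ι)), ← Finset.sum_sub_distrib]
    refine sum_mem fun m _ ↦ ?_
    simp only [smul_eq_mul, mul_assoc, ← Finset.mul_sum]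
    rw [mul_comm (l m), ← mul_sub, pow_succ, Ideal.map_mul]
    exact Ideal.mul_mem_mul (Ideal.mem_map_of_mem _ (hl m.2)) (hc m)

variable (T S B A)
variable [Algebra T A] [IsScalarTower T S A] [IsScalarTower T B A] [IsNoetherianRing T] [IsNoetherianRing S]
  [Module.Finite T B] [Module.Finite S A]
  (G : Type u) [Group G] [Finite G] [MulSemiringAction G B] [MulSemiringAction G A]
  [SMulCommClass G T B] [SMulCommClass G S A] [Algebra.IsInvariant T B G]

/-- The data: invariant elements giving a basis of `A/𝔅A` over `B/𝔅`. -/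
structure Frame where
  ι : Type u
  [fin : Fintype ι]
  a : ι → S
  𝔅 : Ideal B
  le_jacobson : 𝔅 ≤ Ideal.jacobson ⊥
  le_radical : 𝔅 ≤ ((Ideal.jacobson ⊥ : Ideal T).map (algebraMap T B)).radical
  map_le : (Ideal.jacobson ⊥ : Ideal T).map (algebraMap T B) ≤ 𝔅
  span_eq : ∀ α : A, ∃ β : ι → B, α - ∑ j, algebraMap B A (β j) * algebraMap S A (a j) ∈ 𝔅.map (algebraMap B A)
  indep : ∀ β : ι → B, ∑ j, algebraMap B A (β j) * algebraMap S A (a j) ∈ 𝔅.map (algebraMap B A) → ∀ j, β j ∈ 𝔅

attribute [instance] Frame.fin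

variable {T S B A G}
variable [IsLocalRing T] [IsLocalRing S] [IsLocalHom (algebraMap T S)] [Module.Flat B A]
  (hG : ∀ (g : G) (β : B), algebraMap B A (g • β) = g • algebraMap B A β)
  (hT : Function.Injective (algebraMap T B)) (hS : Function.Injective (algebraMap S A))
  (F : Frame T S B A)

local notation "bT" => IsLocalRing.maximalIdeal T

lemma map_b_eq : ((bT).map (algebraMap T S)).map (algebraMap S A) = ((bT).map (algebraMap T B)).map (algebraMap B A) := by
  rw [Ideal.map_map, Ideal.map_map, ← IsScalarTower.algebraMap_eq, ← IsScalarTower.algebraMap_eq]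

include hG hS in
/-- every invariant is a combination of the frame modulo every power of the maximal ideal of `T` -/
lemma exists_sub_sum_mem (n : ℕ) (s : S) :
    ∃ t : F.ι → T, s - ∑ j, algebraMap T S (t j) * F.a j ∈ (bT).map (algebraMap T S) ^ n := by
  obtain ⟨c₁, hc₁⟩ := exists_invariant_approx G (bT) (B := B)
  obtain ⟨c₂, hc₂⟩ := exists_comap_pow_le hS ((bT).map (algebraMap T S))
  obtain ⟨N, hN⟩ := Ideal.exists_radical_pow_le_of_fg ((bT).map (algebraMap T B))
    ((IsNoetherian.noetherian (R := T) (M := B) ((((bT).map (algebraMap T B)).radical).restrictScalars T)).of_restrictScalars _)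
  have h𝔅 : F.𝔅 ^ N ≤ (bT).map (algebraMap T B) := by
    refine le_trans (Ideal.pow_right_mono ?_ N) hN
    simpa [IsLocalRing.jacobson_eq_maximalIdeal] using F.le_radical
  set m := n + c₂ + c₁
  obtain ⟨β, hβ⟩ := exists_sub_sum_mem_pow _ _ F.span_eq (N * m) (algebraMap S A s)
  have hle : (F.𝔅 ^ (N * m)).map (algebraMap B A) ≤ ((bT).map (algebraMap T B) ^ m).map (algebraMap B A) :=
    Ideal.map_mono (by rw [pow_mul]; exact Ideal.pow_right_mono h𝔅 m)
  replace hβ := hle hβ
  have hinv : ∀ (g : G) j, g • β j - β j ∈ (bT).map (algebraMap T B) ^ m := by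
    intro g
    refine mem_of_sum_mem _ _ F.le_jacobson F.span_eq F.indep _ (fun j ↦ g • β j - β j) ?_
    set Q := ((bT).map (algebraMap T B) ^ m).map (algebraMap B A) with hQ
    have hQeq : Q = (((bT) ^ m).map (algebraMap T S)).map (algebraMap S A) := by
      rw [hQ, ← Ideal.map_pow, Ideal.map_map, Ideal.map_map, ← IsScalarTower.algebraMap_eq,
        ← IsScalarTower.algebraMap_eq]
    have hg : g • (algebraMap S A s - ∑ j, algebraMap B A (β j) * algebraMap S A (F.a j)) ∈ Q := by
      rw [hQeq] at hβ ⊢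
      generalize algebraMap S A s - _ = w at hβ ⊢
      induction hβ using Submodule.span_induction with
      | mem w hw => obtain ⟨w, hw, rfl⟩ := hw; rw [smul_algebraMap]; exact Ideal.subset_span ⟨w, hw, rfl⟩
      | zero => simp
      | add w w' _ _ hw hw' => rw [smul_add]; exact add_mem hw hw'
      | smul r w _ hw => rw [smul_eq_mul, smul_mul']; exact Ideal.mul_mem_left _ _ hw
    simp only [smul_sub, smul_algebraMap, Finset.smul_sum, smul_mul', ← hG] at hg
    have := sub_mem hβ hg
    rw [sub_sub_sub_cancel_left, ← Finset.sum_sub_distrib] at this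
    simpa [map_sub, sub_mul] using this
  choose t ht using fun j ↦ hc₁ (n + c₂) (β j) (fun g ↦ hinv g j)
  refine ⟨t, hc₂ n _ ?_⟩
  rw [map_b_eq (B := B), ← Ideal.map_pow, map_sub, map_sum]
  have hfirst : algebraMap S A s - ∑ j, algebraMap B A (β j) * algebraMap S A (F.a j) ∈
      ((bT).map (algebraMap T B) ^ (n + c₂)).map (algebraMap B A) :=
    Ideal.map_mono (Ideal.pow_le_pow_right (Nat.le_add_right _ _)) hβ
  have hsecond : ∑ j, algebraMap B A (β j - algebraMap T B (t j)) * algebraMap S A (F.a j) ∈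
      ((bT).map (algebraMap T B) ^ (n + c₂)).map (algebraMap B A) :=
    sum_mem fun j _ ↦ Ideal.mul_mem_right _ _ (Ideal.mem_map_of_mem _ (ht j))
  convert add_mem hfirst hsecond using 1
  simp only [map_sub, sub_mul, Finset.sum_sub_distrib, map_mul, ← IsScalarTower.algebraMap_apply]
  abel

include hT in
/-- uniqueness of the coordinates -/
lemma exists_mem_pow_of_sum_mem :
    ∃ c, ∀ n (t : F.ι → T), ∑ j, algebraMap T S (t j) * F.a j ∈ (bT).map (algebraMap T S) ^ (n + c) →
      ∀ j, t j ∈ (bT) ^ n := by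
  obtain ⟨c, hc⟩ := exists_comap_pow_le hT (bT)
  refine ⟨c, fun n t ht j ↦ hc n _ ?_⟩
  refine mem_of_sum_mem _ _ F.le_jacobson F.span_eq F.indep _ (fun j ↦ algebraMap T B (t j)) ?_ j
  have := Ideal.mem_map_of_mem (algebraMap S A) ht
  rw [Ideal.map_pow, map_b_eq (B := B), ← Ideal.map_pow, map_sum] at this
  simpa only [map_mul, ← IsScalarTower.algebraMap_apply] using this

include hG hT hS F in
theorem flat : Module.Flat T S := by
  rw [Module.Flat.iff_lTensor_injective']
  intro I
  let bS : Ideal S := (bT).map (algebraMap T S)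
  let f : S ⊗[T] I →ₗ[S] S :=
    (AlgebraTensorModule.rid T S S).toLinearMap ∘ₗ AlgebraTensorModule.map LinearMap.id I.subtype
  refine (injective_iff_map_eq_zero _).mpr fun z hz ↦ ?_
  have hf0 : f z = 0 := by
    change AlgebraTensorModule.rid T S S (LinearMap.lTensor S I.subtype z) = 0
    rw [hz, map_zero]
  have hfz : ∀ s (i : I), f (s ⊗ₜ i) = algebraMap T S i * s := fun s i ↦ by
    simp [f, Algebra.smul_def]
  have key : ∀ n (w : S ⊗[T] I), ∃ i : F.ι → I, w - ∑ j, F.a j ⊗ₜ i j ∈ bS ^ n • (⊤ : Submodule S (S ⊗[T] I)) := by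
    intro n w
    induction w with
    | zero => exact ⟨0, by simp⟩
    | add w w' hw hw' =>
      obtain ⟨i, hi⟩ := hw
      obtain ⟨i', hi'⟩ := hw'
      refine ⟨i + i', ?_⟩
      convert add_mem hi hi' using 1
      simp [tmul_add, Finset.sum_add_distrib]
      abel
    | tmul s i =>
      obtain ⟨t, ht⟩ := exists_sub_sum_mem hG hS F n s
      refine ⟨fun j ↦ t j • i, ?_⟩
      have := Submodule.smul_mem_smul ht (Submodule.mem_top (x := ((1 : S) ⊗ₜ[T] i : S ⊗[T] I)))
      rw [smul_tmul', smul_eq_mul, mul_one, sub_tmul, sum_tmul] at this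
      rwa [Finset.sum_congr rfl fun j _ ↦ (show F.a j ⊗ₜ[T] (t j • i) = (algebraMap T S (t j) * F.a j) ⊗ₜ i by
        rw [tmul_smul, smul_tmul', Algebra.smul_def])]
  obtain ⟨c₁, hc₁⟩ := exists_mem_pow_of_sum_mem hT F
  obtain ⟨c₂, hc₂⟩ := exists_pow_inf_le (bT) I
  have : Module.Finite T I := Module.Finite.of_fg (IsNoetherian.noetherian I)
  have hz0 : z ∈ (⨅ n, bS ^ n • ⊤ : Submodule S (S ⊗[T] I)) := by
    refine Submodule.mem_iInf _ |>.mpr fun n ↦ ?_
    obtain ⟨i, hi⟩ := key (n + c₂ + c₁) z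
    have h1 : ∑ j, algebraMap T S (i j : T) * F.a j ∈ bS ^ (n + c₂ + c₁) := by
      have h := Submodule.mem_map_of_mem (f := f) hi
      rw [Submodule.map_smul'', map_sub, hf0, zero_sub, map_sum] at h
      simp only [hfz] at h
      have h' := Submodule.smul_mono le_rfl le_top h
      simpa using h'
    have h2 : ∀ j, F.a j ⊗ₜ[T] i j ∈ bS ^ n • (⊤ : Submodule S (S ⊗[T] I)) := fun j ↦ by
      have hij : (i j : T) ∈ (bT) ^ n • I := hc₂ n ⟨by simpa using hc₁ (n + c₂) _ h1 j, (i j).2⟩
      have hij' : i j ∈ (bT) ^ n • (⊤ : Submodule T I) := (Submodule.mem_smul_top_iff _ _ _).mpr hij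
      generalize i j = w at hij'
      induction hij' using Submodule.smul_induction_on' with
      | smul t ht w _ =>
        rw [tmul_smul, ← algebraMap_smul S t]
        refine Submodule.smul_mem_smul ?_ Submodule.mem_top
        simp only [bS, ← Ideal.map_pow]
        exact Ideal.mem_map_of_mem _ ht
      | add w _ w' _ hw hw' => rw [tmul_add]; exact add_mem hw hw'
    have := add_mem (Submodule.smul_mono_left (Ideal.pow_le_pow_right (by omega : n ≤ n + c₂ + c₁)) hi)
      (sum_mem fun j (_ : j ∈ Finset.univ) ↦ h2 j)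
    simpa using this
  have hne : bS ≠ ⊤ := ne_top_of_le_ne_top (IsLocalRing.maximalIdeal.isMaximal S).ne_top
    (((IsLocalRing.local_hom_TFAE (algebraMap T S)).out 0 2 rfl rfl).mp ‹_›)
  rw [bS.iInf_pow_smul_eq_bot_of_isLocalRing hne] at hz0
  exact hz0

include hG hS F in
theorem formallyUnramified [Algebra.EssFiniteType T S] [Algebra.FormallyUnramified B A] [Nontrivial B] :
    Algebra.FormallyUnramified T S := by
  let bS : Ideal S := (bT).map (algebraMap T S)
  let κ := IsLocalRing.ResidueField T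
  let Q := B ⧸ F.𝔅
  let W := A ⧸ F.𝔅.map (algebraMap B A)
  let U := S ⧸ bS
  have hle : (bT).map (algebraMap T B) ≤ F.𝔅 := by
    simpa [IsLocalRing.jacobson_eq_maximalIdeal] using F.map_le
  let : Algebra κ Q := (Ideal.quotientMap F.𝔅 (algebraMap T B) (Ideal.map_le_iff_le_comap.mp hle)).toAlgebra
  let : Algebra κ U := (Ideal.quotientMap bS (algebraMap T S) Ideal.le_comap_map).toAlgebra
  have hUW : bS ≤ (F.𝔅.map (algebraMap B A)).comap (algebraMap S A) := by
    rw [← Ideal.map_le_iff_le_comap, map_b_eq (B := B)]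
    exact Ideal.map_mono hle
  let g : U →+* W := Ideal.quotientMap _ (algebraMap S A) hUW
  let : Algebra κ W := (g.comp (algebraMap κ U)).toAlgebra
  have : IsScalarTower κ Q W := .of_algebraMap_eq fun x ↦ by
    obtain ⟨t, rfl⟩ := Ideal.Quotient.mk_surjective x
    change Ideal.Quotient.mk _ (algebraMap S A (algebraMap T S t)) = Ideal.Quotient.mk _ (algebraMap B A (algebraMap T B t))
    rw [← IsScalarTower.algebraMap_apply, ← IsScalarTower.algebraMap_apply]
  let gA : U →ₐ[κ] W := { g with commutes' := fun _ ↦ rfl }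
  let e : Q ⊗[κ] U →ₐ[Q] W := Algebra.TensorProduct.lift (Algebra.ofId Q W) gA fun _ _ ↦ .all _ _
  have heq : ∀ (β : B) (s : S), e (Ideal.Quotient.mk _ β ⊗ₜ Ideal.Quotient.mk _ s) =
      Ideal.Quotient.mk _ (algebraMap B A β * algebraMap S A s) := fun β s ↦ by
    rw [Algebra.TensorProduct.lift_tmul, map_mul]
    rfl
  have hgen : ∀ w : Q ⊗[κ] U, ∃ β : F.ι → B,
      w = ∑ j, Ideal.Quotient.mk F.𝔅 (β j) ⊗ₜ Ideal.Quotient.mk bS (F.a j) := by
    intro w
    induction w with
    | zero => exact ⟨0, by simp⟩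
    | add w w' hw hw' =>
      obtain ⟨β, rfl⟩ := hw
      obtain ⟨β', rfl⟩ := hw'
      exact ⟨β + β', by simp [add_tmul, Finset.sum_add_distrib]⟩
    | tmul q u =>
      obtain ⟨β, rfl⟩ := Ideal.Quotient.mk_surjective q
      obtain ⟨s, rfl⟩ := Ideal.Quotient.mk_surjective u
      obtain ⟨t, ht⟩ := exists_sub_sum_mem hG hS F 1 s
      rw [pow_one] at ht
      refine ⟨fun j ↦ algebraMap T B (t j) * β, ?_⟩
      rw [Ideal.Quotient.eq.mpr ht, map_sum, tmul_sum]
      refine Finset.sum_congr rfl fun j _ ↦ ?_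
      rw [map_mul, map_mul,
        show Ideal.Quotient.mk bS (algebraMap T S (t j)) = algebraMap κ U (IsLocalRing.residue T (t j)) from rfl,
        show Ideal.Quotient.mk F.𝔅 (algebraMap T B (t j)) = algebraMap κ Q (IsLocalRing.residue T (t j)) from rfl,
        ← Algebra.smul_def, ← Algebra.smul_def, tmul_smul, smul_tmul']
  have hbij : Function.Bijective e := by
    refine ⟨(injective_iff_map_eq_zero e).mpr fun w hw ↦ ?_, fun w ↦ ?_⟩
    · obtain ⟨β, rfl⟩ := hgen w
      simp only [map_sum, heq] at hw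
      rw [← map_sum, Ideal.Quotient.eq_zero_iff_mem] at hw
      refine Finset.sum_eq_zero fun j _ ↦ ?_
      rw [Ideal.Quotient.eq_zero_iff_mem.mpr (F.indep β hw j), zero_tmul]
    · obtain ⟨α, rfl⟩ := Ideal.Quotient.mk_surjective w
      obtain ⟨β, hβ⟩ := F.span_eq α
      refine ⟨∑ j, Ideal.Quotient.mk F.𝔅 (β j) ⊗ₜ Ideal.Quotient.mk bS (F.a j), ?_⟩
      simp only [map_sum, heq]
      rw [← map_sum]
      exact (Ideal.Quotient.eq.mpr hβ).symm
  have : Algebra.FormallyUnramified B W := .comp B A W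
  have : Algebra.FormallyUnramified Q W := .of_restrictScalars B _ _
  have : Algebra.FormallyUnramified Q (Q ⊗[κ] U) := .of_equiv (AlgEquiv.ofBijective e hbij).symm
  have : Nontrivial Q := Ideal.Quotient.nontrivial_iff.mpr fun h ↦ by
    have h1 := F.le_jacobson (h ▸ Submodule.mem_top (x := (1 : B)))
    exact not_isUnit_zero (M₀ := B) (by simpa using Ideal.mem_jacobson_bot.mp h1 (-1))
  have : Algebra.FormallyUnramified κ U :=
    Algebra.FormallyUnramified.of_formallyUnramified_tensorProduct_of_faithfullyFlat Q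
  have : IsScalarTower T κ U := .of_algebraMap_eq fun _ ↦ rfl
  have hbS : bS ≤ IsLocalRing.maximalIdeal S :=
    ((IsLocalRing.local_hom_TFAE (algebraMap T S)).out 0 2 rfl rfl).mp ‹_›
  have : Algebra.EssFiniteType T U := .comp T S U
  have : Algebra.EssFiniteType κ U := .of_comp T _ _
  have : Module.Finite κ U := Algebra.FormallyUnramified.finite_of_free _ _
  have : IsReduced U := Algebra.FormallyUnramified.isReduced_of_field κ U
  have : IsArtinianRing U := isArtinian_of_tower κ inferInstance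
  have : Nontrivial U :=
    Ideal.Quotient.nontrivial_iff.mpr <| ne_top_of_le_ne_top (IsLocalRing.maximalIdeal.isMaximal S).ne_top hbS
  have : IsLocalRing U := .of_surjective' _ Ideal.Quotient.mk_surjective
  have hU : IsField U := by
    rw [IsLocalRing.isField_iff_maximalIdeal_eq, ← IsLocalRing.jacobson_eq_maximalIdeal _ bot_ne_top,
      IsArtinianRing.jacobson_eq_radical, ← Ideal.zero_eq_bot, ← nilradical, nilradical_eq_zero]
  have hmax : bS = IsLocalRing.maximalIdeal S :=
    IsLocalRing.eq_maximalIdeal ((Ideal.Quotient.maximal_ideal_iff_isField_quotient _).mpr hU)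
  let fU : U →ₐ[κ] IsLocalRing.ResidueField S :=
    { Ideal.Quotient.factor hbS with
      commutes' := fun x ↦ by
        obtain ⟨t, rfl⟩ := IsLocalRing.residue_surjective x
        rfl }
  have : Algebra.FormallyUnramified κ (IsLocalRing.ResidueField S) :=
    .of_surjective fU (Ideal.Quotient.factor_surjective hbS)
  have : Algebra.EssFiniteType T (IsLocalRing.ResidueField S) := .comp T S _
  have : Algebra.EssFiniteType κ (IsLocalRing.ResidueField S) := .of_comp T _ _
  have : Algebra.IsSeparable κ (IsLocalRing.ResidueField S) := Algebra.FormallyUnramified.isSeparable _ _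
  exact Algebra.FormallyUnramified.of_map_maximalIdeal hmax

end Groth.InvTheory.EtInv
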