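import Groth.Agent.InvTheory.Bezoutian
import Groth.Agent.InvTheory.DepthInvariants
import Groth.Agent.Gorenstein.Regular
import Groth.Agent.Gorenstein.RingEquiv
import Groth.Agent.Variety2.DimAffine

/-!
# Invariants of a finite subgroup of `SL_n` of invertible order are Gorenstein
-/

set_option autoImplicit false

universe u

open MvPolynomial IsLocalRing RingTheory.Sequence

namespace Groth.InvTheory.GorInv

/-- A finite-dimensional algebra with a nondegenerate form is self-injective. -/
theorem injective_of_dual {k W : Type u} [Field k] [CommRing W] [Algebra k W] [Module.Finite k W]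
    (l : Module.Dual k W) (hl : ∀ w, (∀ v, l (w * v) = 0) → w = 0) : Module.Injective W W := by
  refine Module.Baer.injective fun I g ↦ ?_
  let Φ : W →ₗ[k] Module.Dual k W := (LinearMap.mul k W).compr₂ l
  have hΦ : Function.Bijective Φ := by
    have hinj : Function.Injective Φ := (injective_iff_map_eq_zero Φ).mpr fun w hw ↦ hl w fun v ↦ by
      simpa [Φ] using DFunLike.congr_fun hw v
    exact ⟨hinj, (LinearMap.injective_iff_surjective_of_finrank_eq_finrank Subspace.dual_finrank_eq.symm).mp hinj⟩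
  obtain ⟨L, hL⟩ := LinearMap.exists_extend (p := I.restrictScalars k) (l ∘ₗ g.restrictScalars k)
  obtain ⟨w, hw⟩ := hΦ.2 L
  refine ⟨LinearMap.toSpanSingleton W W w, fun i hi ↦ sub_eq_zero.mp (hl _ fun v ↦ ?_)⟩
  have h1 : l (v * g ⟨i, hi⟩) = L (v * i) := by
    have := DFunLike.congr_fun hL (⟨v * i, I.mul_mem_left v hi⟩ : I.restrictScalars k)
    refine (Eq.trans ?_ this.symm).trans rfl
    rw [← smul_eq_mul, ← map_smul]
    rfl
  rw [← hw] at h1
  simp only [Φ, LinearMap.compr₂_apply, LinearMap.mul_apply'] at h1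
  simp only [LinearMap.toSpanSingleton_apply, smul_eq_mul, sub_mul, map_sub]
  rw [show g ⟨i, hi⟩ * v = v * g ⟨i, hi⟩ from mul_comm _ _, h1, show i * w * v = w * (v * i) by ring, sub_self]

/-- A retract of a module inherits weakly regular sequences. -/
theorem isWeaklyRegular_retract {R : Type u} [CommRing R] : ∀ (rs : List R) {M N : Type u} [AddCommGroup M]
    [Module R M] [AddCommGroup N] [Module R N] (i : N →ₗ[R] M) (E : M →ₗ[R] N), E ∘ₗ i = LinearMap.id →
    IsWeaklyRegular M rs → IsWeaklyRegular N rs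
  | [], _, _, _, _, _, _, _, _, _, _ => IsWeaklyRegular.nil R _
  | r :: rs, M, N, _, _, _, _, i, E, hEi, h => by
    rw [isWeaklyRegular_cons_iff] at h ⊢
    refine ⟨fun a b hab ↦ ?_, isWeaklyRegular_retract rs (QuotSMulTop.map r i) (QuotSMulTop.map r E) ?_ h.2⟩
    · have := h.1 (a₁ := i a) (a₂ := i b) (by simp only [← map_smul]; exact congrArg i hab)
      have := congrArg E this
      rwa [← LinearMap.comp_apply, ← LinearMap.comp_apply, hEi] at this
    · refine LinearMap.ext fun q ↦ ?_
      obtain ⟨x, rfl⟩ := Submodule.Quotient.mk_surjective _ q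
      exact congrArg (Submodule.Quotient.mk) (DFunLike.congr_fun hEi x)

/-- Finite self-injective dimension lifts along weakly regular sequences. -/
theorem exists_injLT_of_quotient : ∀ (n : ℕ) (R : Type u) [CommRing R] [IsLocalRing R] [IsNoetherianRing R]
    (rs : List R), rs.length = n → (∀ r ∈ rs, r ∈ maximalIdeal R) → IsWeaklyRegular R rs →
    (∃ n, GrothGoren.InjLT (R ⧸ Ideal.ofList rs) (R ⧸ Ideal.ofList rs) n) → ∃ n, GrothGoren.InjLT R R n := by
  intro n
  induction n with
  | zero =>
    intro R _ _ _ rs hlen _ _ h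
    obtain rfl := List.eq_nil_of_length_eq_zero hlen
    exact (GrothGoren.exists_injLT_iff_of_ringEquiv
      ((Ideal.quotEquivOfEq (Ideal.ofList_nil (R := R))).trans (RingEquiv.quotientBot R))).mp h
  | succ n ih =>
    intro R _ _ _ rs hlen hmem hreg h
    obtain ⟨x, tl, rfl⟩ : ∃ x tl, rs = x :: tl := by
      cases rs with
      | nil => simp at hlen
      | cons x tl => exact ⟨x, tl, rfl⟩
    rw [isWeaklyRegular_cons_iff'] at hreg
    have hx : x ∈ maximalIdeal R := hmem x (List.mem_cons_self ..)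
    have hle : Ideal.span {x} ≤ maximalIdeal R := (Ideal.span_singleton_le_iff_mem _).mpr hx
    have : Nontrivial (R ⧸ Ideal.span {x}) :=
      Ideal.Quotient.nontrivial_iff.mpr (ne_top_of_le_ne_top (maximalIdeal.isMaximal R).ne_top hle)
    have : IsLocalRing (R ⧸ Ideal.span {x}) := .of_surjective' (Ideal.Quotient.mk _) Ideal.Quotient.mk_surjective
    refine (GrothGoren.exists_injLT_quotient_iff R hx hreg.1).mpr ?_
    refine ih (R ⧸ Ideal.span {x}) (tl.map (Ideal.Quotient.mk _)) (by simpa using hlen) ?_ ?_ ?_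
    · intro r hr
      obtain ⟨r, hr', rfl⟩ := List.mem_map.mp hr
      have hmap : (maximalIdeal R).map (Ideal.Quotient.mk (Ideal.span {x})) ≤ maximalIdeal _ :=
        IsLocalRing.le_maximalIdeal fun htop ↦ (maximalIdeal.isMaximal R).ne_top (by
          have := congrArg (Ideal.comap (Ideal.Quotient.mk (Ideal.span {x}))) htop
          rwa [Ideal.comap_map_of_surjective _ Ideal.Quotient.mk_surjective, Ideal.comap_top, ← RingHom.ker_eq_comap_bot,
            Ideal.mk_ker, sup_eq_left.mpr hle] at this)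
      exact hmap (Ideal.mem_map_of_mem _ (hmem r (List.mem_cons_of_mem _ hr')))
    · let e : QuotSMulTop x R ≃ₗ[R ⧸ Ideal.span {x}] R ⧸ Ideal.span {x} :=
        LinearEquiv.extendScalarsOfSurjective (R := R) Ideal.Quotient.mk_surjective
          (Submodule.quotEquivOfEq _ _ (by rw [← Submodule.ideal_span_singleton_smul, Ideal.smul_eq_mul, Ideal.mul_top]))
      exact (e.isWeaklyRegular_congr _).mp hreg.2
    · refine (GrothGoren.exists_injLT_iff_of_ringEquiv (((Ideal.quotEquivOfEq (Ideal.map_ofList _ _).symm).trans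
        (DoubleQuot.quotQuotEquivQuotSup _ _)).trans (Ideal.quotEquivOfEq (Ideal.ofList_cons x tl).symm))).mpr h

section Main

variable {k : Type u} [Field k] {n : ℕ} {G : Type u} [Group G] [Finite G]
  [MulSemiringAction G (MvPolynomial (Fin n) k)] [SMulCommClass G k (MvPolynomial (Fin n) k)]
  {S : Type u} [CommRing S] [Algebra k S] [Algebra S (MvPolynomial (Fin n) k)]
  [IsScalarTower k S (MvPolynomial (Fin n) k)] [SMulCommClass G S (MvPolynomial (Fin n) k)]
  [Algebra.IsInvariant S (MvPolynomial (Fin n) k) G]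

local notation "P" => MvPolynomial (Fin n) k

/-- Reynolds averaging. -/
theorem exists_reynolds (hS : Function.Injective (algebraMap S (MvPolynomial (Fin n) k)))
    (hG : IsUnit ((Nat.card G : ℕ) : k)) :
    ∃ E : MvPolynomial (Fin n) k →ₗ[S] S, E ∘ₗ Algebra.linearMap S (MvPolynomial (Fin n) k) = LinearMap.id ∧
      ∀ (l : MvPolynomial (Fin n) k →ₗ[k] k), (∀ (g : G) p, l (g • p) = l p) →
        ∀ p, l (algebraMap S _ (E p)) = l p := by
  classical
  have := Fintype.ofFinite G
  have hc : ((Nat.card G : ℕ) : k) ≠ 0 := hG.ne_zero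
  let avg : MvPolynomial (Fin n) k → MvPolynomial (Fin n) k := fun p ↦ ((Nat.card G : ℕ) : k)⁻¹ • ∑ g : G, g • p
  have hfix : ∀ p (h : G), h • avg p = avg p := by
    intro p h
    simp only [avg]
    rw [smul_comm, Finset.smul_sum]
    congr 1
    exact Fintype.sum_equiv (Equiv.mulLeft h) _ _ fun g ↦ (mul_smul h g p).symm
  choose e he using fun p ↦ Algebra.IsInvariant.isInvariant (A := S) (G := G) (avg p) (hfix p)
  refine ⟨{ toFun := e, map_add' := fun p q ↦ hS ?_, map_smul' := fun s p ↦ hS ?_ }, LinearMap.ext fun s ↦ hS ?_,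
    fun l hl p ↦ ?_⟩
  · rw [map_add, he, he, he]
    simp [avg, Finset.sum_add_distrib, smul_add]
  · simp only [RingHom.id_apply, smul_eq_mul, map_mul, he, avg]
    rw [mul_smul_comm, Finset.mul_sum]
    refine congrArg (((Nat.card G : ℕ) : k)⁻¹ • ·) (Finset.sum_congr rfl fun g _ ↦ ?_)
    rw [smul_comm, Algebra.smul_def]
  · change algebraMap S _ (e (algebraMap S _ s)) = algebraMap S _ s
    rw [he]
    simp only [avg, smul_algebraMap, Finset.sum_const, Finset.card_univ, ← Nat.card_eq_fintype_card]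
    rw [← Nat.cast_smul_eq_nsmul k, smul_smul, inv_mul_cancel₀ hc, one_smul]
  · change l (algebraMap S _ (e p)) = l p
    rw [he]
    simp only [avg]
    rw [map_smul, map_sum, Finset.sum_congr rfl fun g _ ↦ hl g p, Finset.sum_const, Finset.card_univ,
      ← Nat.card_eq_fintype_card, ← Nat.cast_smul_eq_nsmul k, smul_smul, inv_mul_cancel₀ hc, one_smul]

omit [SMulCommClass G k (MvPolynomial (Fin n) k)] [MulSemiringAction G (MvPolynomial (Fin n) k)] [Finite G]
  [SMulCommClass G S (MvPolynomial (Fin n) k)] [Algebra.IsInvariant S (MvPolynomial (Fin n) k) G] in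
theorem exists_sequence [Module.Finite S (MvPolynomial (Fin n) k)] [IsNoetherianRing S]
    (hS : Function.Injective (algebraMap S (MvPolynomial (Fin n) k))) (m : Ideal S) [hm : m.IsMaximal] :
    ∃ rs : List S, rs.length = n ∧ IsWeaklyRegular (MvPolynomial (Fin n) k) rs ∧ (∀ r ∈ rs, r ∈ m) ∧
      Module.Finite k (MvPolynomial (Fin n) k ⧸ (Ideal.ofList rs).map (algebraMap S (MvPolynomial (Fin n) k))) := by
  have : Algebra.IsIntegral S P := Algebra.IsIntegral.of_finite S P
  have hqmax : ∀ (q : Ideal P) [q.IsPrime], m ≤ q.comap (algebraMap S P) → q.height = n := by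
    intro q hq hle
    have : (q.comap (algebraMap S P)).IsMaximal := (hm.eq_of_le (Ideal.IsPrime.comap _).ne_top hle) ▸ hm
    exact Groth.Variety2.Dim.height_isMaximal_mvPolynomial k n q (Ideal.isMaximal_of_isIntegral_of_isMaximal_comap q this)
  have hdep : (n : ℕ∞) ≤ LocCoh.idealDepth (m.map (algebraMap S P)) P := by
    refine Groth.LocCohBase.le_idealDepth_of_forall_depth _ n P fun q _ hle ↦ ?_
    have := IsRegularRing.isRegularLocalRing_localization (R := P) q
    have hcm := (GrothGoren.isCohenMacaulay (Localization.AtPrime q)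
      (GrothGoren.exists_injLT_of_regular _ (Localization.AtPrime q) le_rfl)).supportDim_eq_depth
    rw [Module.supportDim_self_eq_ringKrullDim, IsLocalization.AtPrime.ringKrullDim_eq_height q,
      hqmax q (Ideal.map_le_iff_le_comap.mp hle)] at hcm
    exact (WithBot.coe_inj.mp hcm).le
  have hdepS := Groth.InvTheory.le_idealDepth_of_le_idealDepth_map m n P hdep
  have hne : m • (⊤ : Submodule S P) ≠ ⊤ := by
    obtain ⟨Q, hQ, hQm⟩ := Ideal.exists_ideal_over_maximal_of_isIntegral (S := P) m (by
      rw [(RingHom.injective_iff_ker_eq_bot _).mp hS]; exact bot_le)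
    intro htop
    have h1 : (1 : P) ∈ m • (⊤ : Submodule S P) := by rw [htop]; exact Submodule.mem_top
    rw [Ideal.smul_top_eq_map, Submodule.restrictScalars_mem] at h1
    exact hQ.ne_top ((Ideal.eq_top_iff_one _).mpr (Ideal.map_le_iff_le_comap.mpr hQm.ge h1))
  obtain ⟨rs, hlen, hreg, hmem⟩ := (Groth.LocCohBase.le_idealDepth_iff_exists m hne n).mp hdepS
  refine ⟨rs, hlen, hreg, hmem, ?_⟩
  set I : Ideal P := (Ideal.ofList rs).map (algebraMap S P) with hIeq
  rw [Module.finite_iff_isArtinianRing, isArtinianRing_iff_isNoetherianRing_krullDimLE_zero]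
  refine ⟨inferInstance, Ring.krullDimLE_zero_iff.mpr fun q hq ↦ ?_⟩
  let q' := q.comap (Ideal.Quotient.mk I)
  have : q'.IsPrime := Ideal.IsPrime.comap _
  have hIq : I ≤ q' := fun y hy ↦ by
    rw [Ideal.mem_comap, Ideal.Quotient.eq_zero_iff_mem.mpr hy]; exact q.zero_mem
  have hregP : IsWeaklyRegular P (rs.map (algebraMap S P)) := (isWeaklyRegular_map_algebraMap_iff P P rs).mpr hreg
  have hregq := hregP.of_isLocalization (Localization.AtPrime q') q'.primeCompl
  have hlenq := GrothGoren.length_le_ringKrullDim hregq (fun r hr ↦ by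
    obtain ⟨y, hy, rfl⟩ := List.mem_map.mp hr
    refine (IsLocalization.AtPrime.to_map_mem_maximal_iff (Localization.AtPrime q') q' y).mpr (hIq ?_)
    rw [hIeq, Ideal.map_ofList]
    exact Ideal.subset_span hy)
  rw [List.length_map, List.length_map, hlen, IsLocalization.AtPrime.ringKrullDim_eq_height q'] at hlenq
  have hh : (n : ℕ∞) ≤ q'.height := WithBot.coe_le_coe.mp hlenq
  have : q'.IsMaximal := by
    obtain ⟨M, hM, hle⟩ := Ideal.exists_le_maximal q' this.ne_top
    rcases hle.eq_or_lt with heq | hlt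
    · exact heq ▸ hM
    have h1 := Ideal.height_strict_mono_of_isPrime hlt
    rw [Groth.Variety2.Dim.height_isMaximal_mvPolynomial k n M hM] at h1
    exact absurd hh (not_le.mpr h1)
  have h2 := (Ideal.map_eq_top_or_isMaximal_of_surjective (Ideal.Quotient.mk I) Ideal.Quotient.mk_surjective this)
  rw [Ideal.map_comap_of_surjective _ Ideal.Quotient.mk_surjective] at h2
  exact h2.resolve_left hq.ne_top

theorem injective_quotient (hS : Function.Injective (algebraMap S (MvPolynomial (Fin n) k)))
    (hG : IsUnit ((Nat.card G : ℕ) : k))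
    (ρ : G →* Matrix.GeneralLinearGroup (Fin n) k)
    (hdet : ∀ g : G, Matrix.det ((ρ g : Matrix (Fin n) (Fin n) k)) = 1)
    (hX : ∀ (g : G) (i : Fin n), g • (X i : MvPolynomial (Fin n) k) =
      ∑ j : Fin n, (ρ g : Matrix (Fin n) (Fin n) k) j i • (X j : MvPolynomial (Fin n) k))
    (rs : List S) (hlen : rs.length = n)
    (hfin : Module.Finite k (MvPolynomial (Fin n) k ⧸ (Ideal.ofList rs).map (algebraMap S (MvPolynomial (Fin n) k)))) :
    Module.Injective (S ⧸ Ideal.ofList rs) (S ⧸ Ideal.ofList rs) := by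
  classical
  obtain ⟨E, hEi, hEl⟩ := exists_reynolds (G := G) (S := S) hS hG
  let f : Fin n → P := fun i ↦ algebraMap S P (rs.get (i.cast hlen.symm))
  set I : Ideal P := (Ideal.ofList rs).map (algebraMap S P) with hI
  have hIeq : I = Ideal.span (Set.range f) := by
    rw [hI, Ideal.map_ofList, Ideal.ofList]
    refine congrArg Ideal.span (Set.ext fun y ↦ ⟨fun hy ↦ ?_, ?_⟩)
    · obtain ⟨r, hr, rfl⟩ := List.mem_map.mp hy
      obtain ⟨i, rfl⟩ := List.get_of_mem hr
      exact ⟨i.cast hlen, rfl⟩
    · rintro ⟨i, rfl⟩; exact List.mem_map.mpr ⟨_, List.get_mem _ _, rfl⟩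
  have hgI : ∀ (g : G) y, y ∈ I → g • y ∈ I := fun g y hy ↦ by
    rw [hI] at hy ⊢
    induction hy using Submodule.span_induction with
    | mem w hw => obtain ⟨w, hw, rfl⟩ := hw; rw [smul_algebraMap]; exact Ideal.mem_map_of_mem _ hw
    | zero => simp
    | add w w' _ _ hw hw' => rw [smul_add]; exact add_mem hw hw'
    | smul r w _ hw => rw [smul_eq_mul, smul_mul']; exact Ideal.mul_mem_left _ _ hw
  let σ : G → (P ⧸ I) →+* (P ⧸ I) := fun g ↦
    Ideal.quotientMap I (MulSemiringAction.toRingHom G P g) fun y hy ↦ hgI g y hy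
  let : MulSemiringAction G (P ⧸ I) :=
    { smul := fun g w ↦ σ g w
      one_smul := fun w ↦ by
        obtain ⟨y, rfl⟩ := Ideal.Quotient.mk_surjective w
        exact congrArg (Ideal.Quotient.mk I) (one_smul G y)
      mul_smul := fun g h w ↦ by
        obtain ⟨y, rfl⟩ := Ideal.Quotient.mk_surjective w
        exact congrArg (Ideal.Quotient.mk I) (mul_smul g h y)
      smul_zero := fun g ↦ map_zero (σ g)
      smul_add := fun g ↦ map_add (σ g)
      smul_one := fun g ↦ map_one (σ g)
      smul_mul := fun g ↦ map_mul (σ g) }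
  have hsm : ∀ (g : G) (y : P), g • (Ideal.Quotient.mk I y) = Ideal.Quotient.mk I (g • y) := fun g y ↦ rfl
  have : SMulCommClass G k (P ⧸ I) := ⟨fun g c w ↦ by
    obtain ⟨y, rfl⟩ := Ideal.Quotient.mk_surjective w
    rw [← Ideal.Quotient.mkₐ_eq_mk k, ← map_smul, Ideal.Quotient.mkₐ_eq_mk, hsm, hsm, smul_comm]
    exact map_smul (Ideal.Quotient.mkₐ k I) c (g • y)⟩
  let x : Fin n → P ⧸ I := fun i ↦ Ideal.Quotient.mk I (X i)
  have haev : (aeval x : P →ₐ[k] P ⧸ I) = Ideal.Quotient.mkₐ k I :=
    MvPolynomial.algHom_ext fun i ↦ by simp [x]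
  have hgC : ∀ g : G, (aeval fun i ↦ ∑ j : Fin n, C ((ρ g : Matrix (Fin n) (Fin n) k) j i) * (X j : P)) =
      MulSemiringAction.toAlgHom k P g := fun g ↦ MvPolynomial.algHom_ext fun i ↦ by
    rw [aeval_X, MulSemiringAction.toAlgHom_apply, hX]
    exact Finset.sum_congr rfl fun j _ ↦ (smul_eq_C_mul ..).symm
  obtain ⟨l, hl, hnd⟩ := Groth.InvTheory.Bezout.exists_invariant_pairing (W := P ⧸ I) f x
    (fun i ↦ by rw [haev]; exact Ideal.Quotient.eq_zero_iff_mem.mpr (hIeq ▸ Ideal.subset_span ⟨i, rfl⟩))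
    (by rw [haev]; exact Ideal.Quotient.mk_surjective)
    (fun p hp ↦ by rw [haev] at hp; exact hIeq ▸ Ideal.Quotient.eq_zero_iff_mem.mp hp)
    ρ hdet (fun g i ↦ by
      change g • (Ideal.Quotient.mk I (X i)) = _
      rw [hsm, hX, map_sum]
      exact Finset.sum_congr rfl fun j _ ↦ map_smul (Ideal.Quotient.mkₐ k I) _ _)
    (fun g i ↦ by rw [hgC]; exact smul_algebraMap g _)
  let j : (S ⧸ Ideal.ofList rs) →ₐ[k] P ⧸ I :=
    Ideal.Quotient.liftₐ (Ideal.ofList rs) ((Ideal.Quotient.mkₐ k I).comp (IsScalarTower.toAlgHom k S P)) fun s hs ↦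
      Ideal.Quotient.eq_zero_iff_mem.mpr (Ideal.mem_map_of_mem (algebraMap S P) hs)
  have hjinj : Function.Injective j := (injective_iff_map_eq_zero j).mpr fun w hw ↦ by
    obtain ⟨s, rfl⟩ := Ideal.Quotient.mk_surjective w
    have hs : algebraMap S P s ∈ I := Ideal.Quotient.eq_zero_iff_mem.mp hw
    refine Ideal.Quotient.eq_zero_iff_mem.mpr ?_
    have hs' : algebraMap S P s ∈ Ideal.ofList rs • (⊤ : Submodule S P) := by
      rw [Ideal.smul_top_eq_map, Submodule.restrictScalars_mem]; exact hs
    have := Submodule.mem_map_of_mem (f := E) hs'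
    rw [Submodule.map_smul'', show E (algebraMap S P s) = s from DFunLike.congr_fun hEi s] at this
    simpa using Submodule.smul_mono le_rfl le_top this
  have : Module.Finite k (S ⧸ Ideal.ofList rs) := Module.Finite.of_injective j.toLinearMap hjinj
  refine injective_of_dual (W := S ⧸ Ideal.ofList rs) (l ∘ₗ j.toLinearMap) fun w hw ↦ ?_
  refine hjinj ((hnd (j w) fun v ↦ ?_).trans (map_zero j).symm)
  obtain ⟨y, rfl⟩ := Ideal.Quotient.mk_surjective v
  obtain ⟨s, rfl⟩ := Ideal.Quotient.mk_surjective w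
  let L : P →ₗ[k] k := l ∘ₗ LinearMap.mulLeft k (Ideal.Quotient.mk I (algebraMap S P s)) ∘ₗ
    (Ideal.Quotient.mkₐ k I).toLinearMap
  have hL : ∀ (g : G) p, L (g • p) = L p := fun g p ↦ by
    change l (Ideal.Quotient.mk I (algebraMap S P s) * Ideal.Quotient.mk I (g • p)) =
      l (Ideal.Quotient.mk I (algebraMap S P s) * Ideal.Quotient.mk I p)
    conv_rhs => rw [← hl g]
    rw [smul_mul', hsm, hsm, smul_algebraMap]
  have h1 := hEl L hL y
  have h2 := hw (Ideal.Quotient.mk _ (E y))
  change l (j (Ideal.Quotient.mk _ s * Ideal.Quotient.mk _ (E y))) = 0 at h2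
  rw [map_mul] at h2
  exact h1.symm.trans h2

theorem isGorensteinRing_invariants (hS : Function.Injective (algebraMap S (MvPolynomial (Fin n) k)))
    (hG : IsUnit ((Nat.card G : ℕ) : k))
    (ρ : G →* Matrix.GeneralLinearGroup (Fin n) k)
    (hdet : ∀ g : G, Matrix.det ((ρ g : Matrix (Fin n) (Fin n) k)) = 1)
    (hX : ∀ (g : G) (i : Fin n), g • (X i : MvPolynomial (Fin n) k) =
      ∑ j : Fin n, (ρ g : Matrix (Fin n) (Fin n) k) j i • (X j : MvPolynomial (Fin n) k)) :
    LocCoh.IsGorensteinRing S := by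
  classical
  have : Algebra.IsIntegral S P := Algebra.IsInvariant.isIntegral S P G
  have : Algebra.FiniteType S P := Algebra.FiniteType.of_restrictScalars_finiteType k _ _
  have : Module.Finite S P := Algebra.IsIntegral.finite
  have : Algebra.FiniteType k S := ⟨fg_of_fg_of_fg k S P Algebra.FiniteType.out Module.Finite.fg_top hS⟩
  have : IsNoetherianRing S := Algebra.FiniteType.isNoetherianRing k S
  obtain ⟨E, hEi, -⟩ := exists_reynolds (G := G) (S := S) hS hG
  have hmax : ∀ m : Ideal S, ∀ (_ : m.IsMaximal),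
      ∃ N, GrothGoren.InjLT (Localization.AtPrime m) (Localization.AtPrime m) N := by
    intro m hm
    obtain ⟨rs, hlen, hreg, hmem, hfin⟩ := exists_sequence hS m
    have hinjLT : GrothGoren.InjLT (S ⧸ Ideal.ofList rs) (S ⧸ Ideal.ofList rs) 1 :=
      GrothGoren.injLT_one_iff.mpr (injective_quotient hS hG ρ hdet hX rs hlen hfin)
    have hregS : IsWeaklyRegular S rs := isWeaklyRegular_retract rs (Algebra.linearMap S P) E hEi hreg
    have hregm := hregS.of_isLocalization (Localization.AtPrime m) m.primeCompl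
    refine exists_injLT_of_quotient _ (Localization.AtPrime m) _ rfl (fun r hr ↦ by
      obtain ⟨y, hy, rfl⟩ := List.mem_map.mp hr
      exact (IsLocalization.AtPrime.to_map_mem_maximal_iff (Localization.AtPrime m) m y).mpr (hmem y hy)) hregm ?_
    rw [← Ideal.map_ofList]
    exact (GrothGoren.exists_injLT_iff_of_ringEquiv
      (IsLocalization.algEquiv (Algebra.algebraMapSubmonoid (S ⧸ Ideal.ofList rs) m.primeCompl)
        (Localization.AtPrime m ⧸ (Ideal.ofList rs).map (algebraMap S (Localization.AtPrime m)))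
        (Localization (Algebra.algebraMapSubmonoid (S ⧸ Ideal.ofList rs) m.primeCompl))).toRingEquiv).mpr
      ⟨_, GrothGoren.exists_injLT_localization _ hinjLT⟩
  refine ⟨fun p hp ↦ (GrothGoren.isGorenstein_iff _).2 ?_⟩
  obtain ⟨m, hm, hpm⟩ := Ideal.exists_le_maximal p hp.ne_top
  obtain ⟨N, hN⟩ := hmax m hm
  let p' : Ideal (Localization.AtPrime m) := p.map (algebraMap S (Localization.AtPrime m))
  have hdisj : Disjoint (m.primeCompl : Set S) (p : Set S) := Set.disjoint_left.mpr fun a ha hap ↦ ha (hpm hap)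
  have : p'.IsPrime := IsLocalization.isPrime_of_isPrime_disjoint m.primeCompl _ p hp hdisj
  have hcomap : p'.comap (algebraMap S (Localization.AtPrime m)) = p :=
    IsLocalization.under_map_of_isPrime_disjoint m.primeCompl _ hp hdisj
  have : IsLocalization.AtPrime (Localization.AtPrime p') p := by
    have := IsLocalization.isLocalization_isLocalization_atPrime_isLocalization m.primeCompl (Localization.AtPrime p') p'
    convert this using 2
    exact hcomap.symm
  exact (GrothGoren.exists_injLT_iff_of_ringEquiv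
    (IsLocalization.algEquiv p.primeCompl (Localization.AtPrime p) (Localization.AtPrime p')).toRingEquiv).mpr
    ⟨_, GrothGoren.exists_injLT_localization p'.primeCompl hN⟩

end Main

end Groth.InvTheory.GorInv
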