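import Groth.Prelude.Def_HopfRep
import Mathlib.RingTheory.HopfAlgebra.Basic
import Mathlib.RingTheory.HopfAlgebra.Convolution
import Mathlib.RingTheory.Flat.Basic
import Mathlib.RingTheory.TensorProduct.Maps
import Mathlib.LinearAlgebra.Dimension.Free

/-!
A multiplicative coaction of a Hopf algebra is a flat ring map: it is the composite of the shear
automorphism of `S ⊗ H` with `s ↦ s ⊗ 1`.
-/

open TensorProduct

universe u v w

namespace Groth.InvTheory

variable (k : Type u) [CommRing k] (H : Type v) [CommRing H] [HopfAlgebra k H]
  (S : Type w) [CommRing S] [Algebra k S] [HopfRep.Comod k H S]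

/-- The coaction as an algebra map. -/
noncomputable def coactHom
    (hmul : ∀ x y : S, HopfRep.Comod.coact (k := k) (A := H) (x * y) =
        HopfRep.Comod.coact (k := k) (A := H) x * HopfRep.Comod.coact (k := k) (A := H) y)
    (hone : HopfRep.Comod.coact (k := k) (A := H) (1 : S) = 1) : S →ₐ[k] S ⊗[k] H :=
  AlgHom.ofLinearMap (HopfRep.Comod.coact (k := k) (A := H)) hone hmul

variable (hmul : ∀ x y : S, HopfRep.Comod.coact (k := k) (A := H) (x * y) =
        HopfRep.Comod.coact (k := k) (A := H) x * HopfRep.Comod.coact (k := k) (A := H) y)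
    (hone : HopfRep.Comod.coact (k := k) (A := H) (1 : S) = 1)

/-- The shear map. -/
noncomputable def shear : S ⊗[k] H →ₐ[k] S ⊗[k] H :=
  Algebra.TensorProduct.lift (coactHom k H S hmul hone) Algebra.TensorProduct.includeRight
    fun _ _ ↦ .all ..

/-- The inverse shear map. -/
noncomputable def unshear : S ⊗[k] H →ₐ[k] S ⊗[k] H :=
  Algebra.TensorProduct.lift
    ((Algebra.TensorProduct.map (AlgHom.id k S) (HopfAlgebra.antipodeAlgHom k H)).comp
      (coactHom k H S hmul hone)) Algebra.TensorProduct.includeRight fun _ _ ↦ .all ..

lemma unshear_coact (s : S) :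
    unshear k H S hmul hone (HopfRep.Comod.coact (k := k) (A := H) s) = s ⊗ₜ 1 := by
  have h1 : ∀ v : S ⊗[k] H, unshear k H S hmul hone v =
      (LinearMap.mul' k H ∘ₗ (HopfAlgebraStruct.antipode k).rTensor H).lTensor S
        (TensorProduct.assoc k S H H ((HopfRep.Comod.coact (k := k) (A := H)).rTensor H v)) := by
    intro v
    induction v using TensorProduct.induction_on with
    | zero => simp
    | add x y hx hy => simp only [map_add, hx, hy]
    | tmul a b =>
      simp only [unshear, coactHom, Algebra.TensorProduct.lift_tmul, AlgHom.comp_apply,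
        AlgHom.ofLinearMap_apply, LinearMap.rTensor_tmul]
      induction (HopfRep.Comod.coact (k := k) (A := H) a) using TensorProduct.induction_on with
      | zero => simp
      | add x y hx hy => simp only [map_add, add_mul, TensorProduct.add_tmul, hx, hy]
      | tmul x y => simp [Algebra.TensorProduct.tmul_mul_tmul]
  rw [h1]
  have e := LinearMap.congr_fun (HopfRep.Comod.coassoc (k := k) (A := H) (V := S)) s
  simp only [LinearMap.comp_apply, LinearEquiv.coe_coe] at e
  rw [e, ← LinearMap.lTensor_comp_apply, LinearMap.comp_assoc, HopfAlgebra.mul_antipode_rTensor_comul,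
    LinearMap.lTensor_comp_apply]
  have e2 := LinearMap.congr_fun (HopfRep.Comod.counit_comp (k := k) (A := H) (V := S)) s
  simp only [LinearMap.comp_apply] at e2
  rw [e2]
  simp

lemma shear_unshear_tmul_one (s : S) :
    shear k H S hmul hone (unshear k H S hmul hone (s ⊗ₜ 1)) = s ⊗ₜ 1 := by
  have h0 : unshear k H S hmul hone (s ⊗ₜ 1) =
      (HopfAlgebraStruct.antipode k).lTensor S (HopfRep.Comod.coact (k := k) (A := H) s) := by
    simp only [unshear, coactHom, Algebra.TensorProduct.lift_tmul, AlgHom.comp_apply,
      AlgHom.ofLinearMap_apply, map_one, mul_one]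
    induction (HopfRep.Comod.coact (k := k) (A := H) s) using TensorProduct.induction_on with
    | zero => simp
    | add x y hx hy => simp only [map_add, hx, hy]
    | tmul x y => simp
  have h1 : ∀ v : S ⊗[k] H, shear k H S hmul hone ((HopfAlgebraStruct.antipode k).lTensor S v) =
      (LinearMap.mul' k H ∘ₗ (HopfAlgebraStruct.antipode k).lTensor H).lTensor S
        (TensorProduct.assoc k S H H ((HopfRep.Comod.coact (k := k) (A := H)).rTensor H v)) := by
    intro v
    induction v using TensorProduct.induction_on with
    | zero => simp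
    | add x y hx hy => simp only [map_add, hx, hy]
    | tmul a b =>
      simp only [shear, coactHom, LinearMap.lTensor_tmul, Algebra.TensorProduct.lift_tmul,
        AlgHom.ofLinearMap_apply, LinearMap.rTensor_tmul]
      induction (HopfRep.Comod.coact (k := k) (A := H) a) using TensorProduct.induction_on with
      | zero => simp
      | add x y hx hy => simp only [map_add, add_mul, TensorProduct.add_tmul, hx, hy]
      | tmul x y => simp [Algebra.TensorProduct.tmul_mul_tmul]
  rw [h0, h1]
  have e := LinearMap.congr_fun (HopfRep.Comod.coassoc (k := k) (A := H) (V := S)) s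
  simp only [LinearMap.comp_apply, LinearEquiv.coe_coe] at e
  rw [e, ← LinearMap.lTensor_comp_apply, LinearMap.comp_assoc, HopfAlgebra.mul_antipode_lTensor_comul,
    LinearMap.lTensor_comp_apply]
  have e2 := LinearMap.congr_fun (HopfRep.Comod.counit_comp (k := k) (A := H) (V := S)) s
  simp only [LinearMap.comp_apply] at e2
  rw [e2]
  simp

lemma shear_unshear (v : S ⊗[k] H) : shear k H S hmul hone (unshear k H S hmul hone v) = v := by
  induction v using TensorProduct.induction_on with
  | zero => simp
  | add x y hx hy => simp only [map_add, hx, hy]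
  | tmul s h =>
    rw [show s ⊗ₜ[k] h = (s ⊗ₜ[k] (1 : H)) * ((1 : S) ⊗ₜ h) by simp, map_mul, map_mul,
      shear_unshear_tmul_one]
    simp [unshear, shear]

/-- A multiplicative coaction preserves non-zero-divisors. -/
theorem coact_mem_nonZeroDivisors [Module.Flat k H] {s : S} (hs : s ∈ nonZeroDivisors S) :
    coactHom k H S hmul hone s ∈ nonZeroDivisors (S ⊗[k] H) := by
  have h1 : s ⊗ₜ[k] (1 : H) ∈ nonZeroDivisors (S ⊗[k] H) := by
    refine mem_nonZeroDivisors_iff_left.mpr fun z hz ↦ ?_
    have hinj : Function.Injective (LinearMap.mulLeft k s) := fun x y h ↦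
      (mul_cancel_left_mem_nonZeroDivisors hs).mp h
    refine Module.Flat.rTensor_preserves_injective_linearMap (M := H) _ hinj ?_
    rw [map_zero, ← hz]
    clear hz
    induction z using TensorProduct.induction_on with
    | zero => simp
    | add x y hx hy => simp only [map_add, mul_add, hx, hy]
    | tmul x y => simp
  refine mem_nonZeroDivisors_iff_left.mpr fun z hz ↦ ?_
  have h := congrArg (unshear k H S hmul hone) hz
  rw [map_mul, map_zero, show unshear k H S hmul hone (coactHom k H S hmul hone s) = s ⊗ₜ 1 from
    unshear_coact k H S hmul hone s] at h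
  have := mem_nonZeroDivisors_iff_left.mp h1 _ h
  rw [← shear_unshear k H S hmul hone z, this, map_zero]

end Groth.InvTheory
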